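import Cfsg.Agent.Lib.FgsC.FormClasses.Count

/-!
Conjugacy classes of the group of a form map injectively to codes.
-/

set_option autoImplicit false
set_option linter.unusedSectionVars false

namespace CfsgLib.FgsC.FormClasses

universe u

variable {F : Type u} [Field F] [Fintype F] {κ : Type} [Fintype κ] [DecidableEq κ] {δ : F}
  {J : Matrix κ κ F}

/-- The code of an isometry. -/
noncomputable def codeOf (hδ : δ * δ = 1) (hJ : J.transpose = δ • J) (hJd : J.det ≠ 0) {A : Matrix κ κ F}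
    (hA : A.transpose * J * A = J) :
    (Fin (Fintype.card κ) → Polynomial F) × (Fin (Fintype.card κ) → Fin 4 → Bool) :=
  (exists_normal hδ hJ hJd hA).some.code

theorem two_ne_zero_of_odd (hodd : Odd (Fintype.card F)) : (2 : F) ≠ 0 := by
  intro h
  have hchar : ringChar F = 2 := by
    haveI : CharP F 2 := CharTwo.of_one_ne_zero_of_two_eq_zero one_ne_zero h
    exact ringChar.eq F 2
  exact (Nat.not_even_iff_odd.2 hodd) (Nat.even_iff.2 (FiniteField.even_card_of_char_two hchar))

variable {G : Type*} [Group G] (φ : G →* Matrix κ κ F)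

/-- Equal codes mean conjugate. -/
theorem isConj_of_code (h2 : (2 : F) ≠ 0) (hδ : δ = 1 ∨ δ = -1) (hδ' : δ * δ = 1) (hJ : J.transpose = δ • J)
    (hJd : J.det ≠ 0) (hφ : Function.Injective φ) (hmem : ∀ g, (φ g).transpose * J * φ g = J)
    (hsur : ∀ A : Matrix κ κ F, A.transpose * J * A = J → ∃ g, φ g = A) {x y : G}
    (h : codeOf hδ' hJ hJd (hmem x) = codeOf hδ' hJ hJd (hmem y)) : IsConj x y := by
  obtain ⟨Q, hQ, hQJ⟩ := (Normal.iso_of_code _ _ h2 hδ h).exists_unit
  obtain ⟨g, hg⟩ := hsur _ hQJ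
  refine isConj_iff.2 ⟨g, hφ ?_⟩
  have h1 : φ g * φ g⁻¹ = 1 := by rw [← map_mul, mul_inv_cancel, map_one]
  rw [map_mul, map_mul, hg, hQ, mul_assoc, ← hg, h1, mul_one]

theorem card_classes_le (hodd : Odd (Fintype.card F)) (hδ : δ = 1 ∨ δ = -1) (hJ : J.transpose = δ • J)
    (hJd : J.det ≠ 0) (hφ : Function.Injective φ) (hmem : ∀ g, (φ g).transpose * J * φ g = J)
    (hsur : ∀ A : Matrix κ κ F, A.transpose * J * A = J → ∃ g, φ g = A) :
    Nat.card (ConjClasses G) ≤ codeSum (Fintype.card F) (Fintype.card κ) (slotB δ) := by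
  have h2 := two_ne_zero_of_odd hodd
  have hδ' : δ * δ = 1 := by rcases hδ with rfl | rfl <;> simp
  obtain ⟨hfin, hcard⟩ := card_codes_le (F := F) (N := Fintype.card κ) (δ := δ)
  refine le_trans (Nat.card_le_card_of_injective
    (fun c : ConjClasses G => (⟨codeOf hδ' hJ hJd (hmem c.out),
      Normal.code_isCode _ h2 hδ⟩ : {z // IsCode (Fintype.card κ) δ z})) fun c d h => ?_) hcard
  rw [← Quotient.out_eq c, ← Quotient.out_eq d]
  exact ConjClasses.mk_eq_mk_iff_isConj.2
    (isConj_of_code φ h2 hδ hδ' hJ hJd hφ hmem hsur (congrArg Subtype.val h))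

end CfsgLib.FgsC.FormClasses
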