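import Cfsg.Agent.Lib.FgsC.FormClasses.Rest

/-!
Codes of isometries: self-reciprocal polynomials and square-class bits.
-/

set_option autoImplicit false
set_option linter.unusedSectionVars false

namespace CfsgLib.FgsC.FormClasses

open Polynomial CfsgLib.KnownB.JordanCent CfsgLib.KnownB.UnitJordan CfsgLib.FgsC.SUClasses

universe u

variable {F : Type u} [Field F]

local notation "idF" => RingHom.id F

/-- A square class is recorded at block size `i + 1`. -/
def IsSlot (δ : F) (i : ℕ) : Prop := δ * (-1 : F) ^ i = 1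

/-- Encoding of a multiplicity and a class. -/
def enc (s : Bool) (m : ℕ) (cl : Bool) : ℕ × Bool × Bool :=
  if s then (if m % 2 = 1 then (m / 2, !cl, cl) else if cl then (m / 2 - 1, true, true) else (m / 2, false, false))
  else (m / 2, false, false)

/-- The weight of a bit. -/
def bw (b : Bool) : ℕ := if b then 1 else 0

theorem enc_weight {s : Bool} {m : ℕ} {cl : Bool} (h1 : s = false → Even m) (h2 : cl = true → s = true ∧ 1 ≤ m) :
    2 * (enc s m cl).1 + bw (enc s m cl).2.1 + bw (enc s m cl).2.2 = m := by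
  cases s
  · obtain ⟨k, rfl⟩ := h1 rfl
    simp [enc, bw]
    omega
  · cases cl
    · by_cases hm : m % 2 = 1 <;> simp [enc, bw, hm] <;> omega
    · have := (h2 rfl).2
      by_cases hm : m % 2 = 1 <;> simp [enc, bw, hm] <;> omega

theorem enc_inj {s : Bool} {m m' : ℕ} {cl cl' : Bool} (h1 : s = false → Even m)
    (h2 : cl = true → s = true ∧ 1 ≤ m) (h1' : s = false → Even m') (h2' : cl' = true → s = true ∧ 1 ≤ m')
    (h : enc s m cl = enc s m' cl') : m = m' ∧ cl = cl' := by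
  obtain rfl : m = m' := by rw [← enc_weight h1 h2, ← enc_weight h1' h2', h]
  refine ⟨rfl, ?_⟩
  cases s
  · cases cl
    · cases cl'
      · rfl
      · exact absurd (h2' rfl).1 Bool.false_ne_true
    · exact absurd (h2 rfl).1 Bool.false_ne_true
  · clear h1 h1' h2 h2'
    by_cases hm : m % 2 = 1 <;> cases cl <;> cases cl' <;> first | rfl | simp [enc, hm] at h

theorem enc_bit {s : Bool} {m : ℕ} {cl : Bool} :
    ((enc s m cl).2.1 = true → s = true) ∧ ((enc s m cl).2.2 = true → s = true) := by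
  unfold enc
  cases s <;> simp

/-- Codes. -/
structure IsCode (N : ℕ) (δ : F) (z : (Fin N → F[X]) × (Fin N → Fin 4 → Bool)) : Prop where
  monic : ∀ i, (z.1 i).Monic
  coeff0 : ∀ i, (z.1 i).coeff 0 = 1
  fixed : ∀ i, tl idF (z.1 i) = z.1 i
  even : ∀ i, Even (z.1 i).natDegree
  weight : ∑ i : Fin N, ((i : ℕ) + 1) * ((z.1 i).natDegree + ∑ l, bw (z.2 i l)) = N
  bit : ∀ i l, z.2 i l = true → IsSlot δ i

theorem fixed_linear {c : F} (hc : c * c = 1) : tl idF (X - C c) = X - C c := by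
  have hc0 : c ≠ 0 := left_ne_zero_of_mul_eq_one hc
  have h0 : (X - C c).coeff 0 ≠ 0 := by simp [hc0]
  have hd := natDegree_tl (σ := idF) h0
  rw [natDegree_X_sub_C] at hd
  rw [(tl_monic (σ := idF) h0).eq_X_add_C hd, tl_coeff_zero (monic_X_sub_C c)]
  simp only [RingHom.id_apply, coeff_sub, coeff_X_zero, coeff_C_zero, zero_sub, inv_neg, map_neg, ← sub_eq_add_neg]
  rw [inv_eq_of_mul_eq_one_left hc]

/-- Evaluation of the reversal at `±1`. -/
theorem eval_reverse_sign (f : F[X]) {c : F} (hc : c * c = 1) : f.reverse.eval c = c ^ f.natDegree * f.eval c := by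
  letI : Invertible c := ⟨c, hc, hc⟩
  have h := eval₂_reverse_mul_pow (RingHom.id F) c f
  rw [show (⅟c : F) = c from rfl] at h
  rw [← eval₂_id, ← eval₂_id, ← h, mul_comm, mul_assoc, ← mul_pow, hc, one_pow, mul_one]

theorem fixed_facts {f : F[X]} (h0 : f.coeff 0 ≠ 0) (hf : tl idF f = f) (h1 : f.eval 1 ≠ 0)
    (h2 : f.eval (-1) ≠ 0) (hF : (2 : F) ≠ 0) : Even f.natDegree ∧ f.coeff 0 = 1 := by
  have key : ∀ c : F, c * c = 1 → f.eval c ≠ 0 → f.coeff 0 = c ^ f.natDegree := by
    intro c hc hcf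
    have h := congrArg (fun g : F[X] => g.eval c) hf
    simp only [tl, RingHom.id_apply, eval_mul, eval_C, Polynomial.map_id, eval_reverse_sign f hc] at h
    refine (mul_right_cancel₀ hcf ?_).symm
    calc c ^ f.natDegree * f.eval c = f.coeff 0 * ((f.coeff 0)⁻¹ * (c ^ f.natDegree * f.eval c)) := by
          rw [← mul_assoc, mul_inv_cancel₀ h0, one_mul]
      _ = _ := by rw [h]
  have e1 := key 1 (one_mul _) h1
  rw [one_pow] at e1
  have e2 := key (-1) (by ring) h2
  rw [e1] at e2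
  refine ⟨?_, e1⟩
  refine (neg_one_pow_eq_one_iff_even ?_).1 e2.symm
  intro h
  exact hF (by linear_combination -h)

theorem even_card_of_skew {ι : Type} [Fintype ι] [DecidableEq ι] {G : Matrix ι ι F} (h2 : (2 : F) ≠ 0)
    (hG : G.transpose = (-1 : F) • G) (hd : G.det ≠ 0) : Even (Fintype.card ι) := by
  have h := congrArg Matrix.det hG
  rw [Matrix.det_transpose, Matrix.det_smul] at h
  refine (neg_one_pow_eq_one_iff_even (R := F) ?_).1 (mul_right_cancel₀ hd ?_)
  · intro h'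
    exact h2 (by linear_combination -h')
  · rw [one_mul]; exact h.symm

section Pieces

variable [Fintype F] {δ : F} {t : ℕ} {d : Fin t → ℕ}

/-- Whether block size `i + 1` carries a class. -/
noncomputable def slotB (δ : F) (i : ℕ) : Bool := by
  classical
  exact decide (IsSlot δ i)

theorem slotB_eq_true {δ : F} {i : ℕ} : slotB δ i = true ↔ IsSlot δ i := by simp [slotB]

/-- The class at block size `i + 1`. -/
noncomputable def cls (δ : F) (H : Matrix (Idx d) (Idx d) F) (i : ℕ) : Bool := by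
  classical
  exact slotB δ i && !decide (IsSquare (formG H (i + 1)).det)

/-- The encoded piece at block size `i + 1`. -/
noncomputable def piece (δ : F) (H : Matrix (Idx d) (Idx d) F) (i : ℕ) : ℕ × Bool × Bool :=
  enc (slotB δ i) (Fintype.card (Diag d (i + 1))) (cls δ H i)

theorem piece_hyps (h2 : (2 : F) ≠ 0) (hδ : δ = 1 ∨ δ = -1) {H : Matrix (Idx d) (Idx d) F}
    (hH : SForm idF δ d H) (i : ℕ) :
    (slotB δ i = false → Even (Fintype.card (Diag d (i + 1)))) ∧
      (cls δ H i = true → slotB δ i = true ∧ 1 ≤ Fintype.card (Diag d (i + 1))) := by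
  classical
  refine ⟨fun h => ?_, fun h => ?_⟩
  · refine even_card_of_skew h2 ?_ (formG_det_ne hH (i + 1))
    rw [hH.sign, Nat.add_sub_cancel]
    congr 1
    have h' : ¬ IsSlot δ i := fun hs => by simp [slotB_eq_true.2 hs] at h
    rcases hδ with rfl | rfl <;> rcases neg_one_pow_eq_or F i with e | e <;> simp_all [IsSlot]
  · simp only [cls, Bool.and_eq_true, Bool.not_eq_true', decide_eq_false_iff_not] at h
    obtain ⟨h1, h3⟩ := h
    refine ⟨h1, Nat.one_le_iff_ne_zero.2 fun h0 => h3 ?_⟩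
    haveI := Fintype.card_eq_zero_iff.1 h0
    rw [Matrix.det_isEmpty]
    exact ⟨1, (one_mul 1).symm⟩

theorem piece_weight (h2 : (2 : F) ≠ 0) (hδ : δ = 1 ∨ δ = -1) {H : Matrix (Idx d) (Idx d) F}
    (hH : SForm idF δ d H) (i : ℕ) :
    2 * (piece δ H i).1 + bw (piece δ H i).2.1 + bw (piece δ H i).2.2 = Fintype.card (Diag d (i + 1)) := by
  classical
  exact enc_weight (piece_hyps h2 hδ hH i).1 (piece_hyps h2 hδ hH i).2

theorem piece_inj (h2 : (2 : F) ≠ 0) (hδ : δ = 1 ∨ δ = -1) {H : Matrix (Idx d) (Idx d) F} (hH : SForm idF δ d H)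
    {t' : ℕ} {d' : Fin t' → ℕ} {H' : Matrix (Idx d') (Idx d') F} (hH' : SForm idF δ d' H') (i : ℕ)
    (h : piece δ H i = piece δ H' i) :
    Fintype.card (Diag d (i + 1)) = Fintype.card (Diag d' (i + 1)) ∧
      (IsSlot δ i → (IsSquare (formG H (i + 1)).det ↔ IsSquare (formG H' (i + 1)).det)) := by
  classical
  obtain ⟨h3, h4⟩ := enc_inj (piece_hyps h2 hδ hH i).1 (piece_hyps h2 hδ hH i).2
    (piece_hyps h2 hδ hH' i).1 (piece_hyps h2 hδ hH' i).2 h
  refine ⟨h3, fun hs => ?_⟩
  simp only [cls, slotB_eq_true.2 hs, Bool.true_and, Bool.not_inj_iff, decide_eq_decide] at h4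
  exact h4

theorem sum_fibres {N : ℕ} (hd : ∀ k, 1 ≤ d k) (hN : ∀ k, d k ≤ N) :
    ∑ i : Fin N, ((i : ℕ) + 1) * Fintype.card (Diag d ((i : ℕ) + 1)) = Fintype.card (Idx d) := by
  classical
  rw [Fintype.card_sigma]
  simp only [Fintype.card_fin, Fintype.card_subtype, Finset.card_filter, Finset.mul_sum, mul_ite, mul_one, mul_zero]
  rw [Finset.sum_comm]
  refine Finset.sum_congr rfl fun k _ => ?_
  have := hd k
  have := hN k
  rw [Finset.sum_eq_single (⟨d k - 1, by omega⟩ : Fin N)]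
  · rw [if_pos (show d k = d k - 1 + 1 by omega)]
    show d k - 1 + 1 = d k
    omega
  · intro i _ hi
    rw [if_neg]
    intro e
    exact hi (Fin.ext (show (i : ℕ) = d k - 1 by omega))
  · simp

end Pieces

section Normal

variable [Fintype F] {κ : Type} [Fintype κ] [DecidableEq κ] {δ : F} {A H : Matrix κ κ F}

/-- The polynomial of the code at block size `i + 1`. -/
noncomputable def Normal.poly (N : Normal δ A H) (i : ℕ) : F[X] :=
  (X - C (1 : F)) ^ (2 * (piece δ N.Hp i).1) * (X - C (-1 : F)) ^ (2 * (piece δ N.Hm i).1) * restTuple N.C0 i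

/-- The bits of the code at block size `i + 1`. -/
noncomputable def Normal.bits (N : Normal δ A H) (i : ℕ) : Fin 4 → Bool :=
  ![(piece δ N.Hp i).2.1, (piece δ N.Hp i).2.2, (piece δ N.Hm i).2.1, (piece δ N.Hm i).2.2]

/-- The code. -/
noncomputable def Normal.code (N : Normal δ A H) :
    (Fin (Fintype.card κ) → F[X]) × (Fin (Fintype.card κ) → Fin 4 → Bool) :=
  (fun i => N.poly i, fun i => N.bits i)

theorem Normal.card_eq (N : Normal δ A H) :
    Fintype.card (Idx N.dp) + (Fintype.card (Idx N.dm) + N.r) = Fintype.card κ := by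
  obtain ⟨Q, R, h1, h2, -, -⟩ := N.iso
  have h := (LinearEquiv.ofLinear (Matrix.toLin' Q) (Matrix.toLin' R)
    (by rw [← Matrix.toLin'_mul, h1, Matrix.toLin'_one]) (by rw [← Matrix.toLin'_mul, h2, Matrix.toLin'_one])).finrank_eq
  rw [Module.finrank_fintype_fun_eq_card, Module.finrank_fintype_fun_eq_card, Fintype.card_sum, Fintype.card_sum,
    Fintype.card_fin] at h
  exact h

theorem Normal.le_card (N : Normal δ A H) :
    (∀ k, N.dp k ≤ Fintype.card κ) ∧ (∀ k, N.dm k ≤ Fintype.card κ) ∧ N.r ≤ Fintype.card κ := by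
  have h := N.card_eq
  have key : ∀ {t : ℕ} (d : Fin t → ℕ) (k : Fin t), d k ≤ Fintype.card (Idx d) := fun d k => by
    rw [Fintype.card_sigma]
    simp only [Fintype.card_fin]
    exact Finset.single_le_sum (f := d) (fun _ _ => Nat.zero_le _) (Finset.mem_univ k)
  refine ⟨fun k => ?_, fun k => ?_, by omega⟩
  · have := key N.dp k; omega
  · have := key N.dm k; omega

theorem Normal.rest_props (N : Normal δ A H) :
    N.C0.det ≠ 0 ∧
    (∀ i, (restTuple N.C0 i).Monic ∧ (restTuple N.C0 i).coeff 0 ≠ 0 ∧ tl idF (restTuple N.C0 i) = restTuple N.C0 i ∧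
      (restTuple N.C0 i).eval 1 ≠ 0 ∧ (restTuple N.C0 i).eval (-1) ≠ 0) ∧
    (∑ i : Fin N.r, ((i : ℕ) + 1) * (restTuple N.C0 i).natDegree = N.r) ∧ ∀ i, N.r ≤ i → restTuple N.C0 i = 1 :=
  restTuple_props N.h0d N.h0C N.hC1 N.hC2

theorem Normal.rest_sum (N : Normal δ A H) :
    ∑ i : Fin (Fintype.card κ), ((i : ℕ) + 1) * (restTuple N.C0 i).natDegree = N.r := by
  obtain ⟨-, -, hs, h1⟩ := N.rest_props
  rw [Fin.sum_univ_eq_sum_range (fun i => (i + 1) * (restTuple N.C0 i).natDegree),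
    ← Finset.sum_subset (Finset.range_subset_range.2 N.le_card.2.2) (fun i _ hi => ?_),
    ← Fin.sum_univ_eq_sum_range (fun i => (i + 1) * (restTuple N.C0 i).natDegree)]
  · exact hs
  · rw [h1 i (by simpa using hi), natDegree_one, mul_zero]

theorem Normal.poly_facts (N : Normal δ A H) (h2 : (2 : F) ≠ 0) (i : ℕ) :
    (N.poly i).Monic ∧ (N.poly i).coeff 0 = 1 ∧ tl idF (N.poly i) = N.poly i ∧
      (N.poly i).natDegree = 2 * (piece δ N.Hp i).1 + 2 * (piece δ N.Hm i).1 + (restTuple N.C0 i).natDegree ∧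
      Even (N.poly i).natDegree := by
  obtain ⟨-, hT, -, -⟩ := N.rest_props
  obtain ⟨hm, h0, hf, e1, e2⟩ := hT i
  obtain ⟨hev, hc⟩ := fixed_facts h0 hf e1 e2 h2
  have hd : (N.poly i).natDegree = 2 * (piece δ N.Hp i).1 + 2 * (piece δ N.Hm i).1 + (restTuple N.C0 i).natDegree := by
    rw [Normal.poly, Monic.natDegree_mul (((monic_X_sub_C _).pow _).mul ((monic_X_sub_C _).pow _)) hm,
      Monic.natDegree_mul ((monic_X_sub_C _).pow _) ((monic_X_sub_C _).pow _), natDegree_pow, natDegree_pow,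
      natDegree_X_sub_C, natDegree_X_sub_C, mul_one, mul_one]
  refine ⟨(((monic_X_sub_C _).pow _).mul ((monic_X_sub_C _).pow _)).mul hm, ?_, ?_, hd, ?_⟩
  · rw [Normal.poly, mul_coeff_zero, mul_coeff_zero, hc, coeff_zero_eq_eval_zero, coeff_zero_eq_eval_zero,
      eval_pow, eval_pow, pow_mul, pow_mul]
    simp
  · rw [Normal.poly, tl_mul, tl_mul, tl_pow, tl_pow, fixed_linear (one_mul _), fixed_linear (by ring), hf]
  · rw [hd]
    obtain ⟨a, ha⟩ := hev
    exact ⟨(piece δ N.Hp i).1 + (piece δ N.Hm i).1 + a, by omega⟩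

theorem Normal.code_isCode (N : Normal δ A H) (h2 : (2 : F) ≠ 0) (hδ : δ = 1 ∨ δ = -1) :
    IsCode (Fintype.card κ) δ N.code := by
  classical
  refine ⟨fun i => (N.poly_facts h2 i).1, fun i => (N.poly_facts h2 i).2.1, fun i => (N.poly_facts h2 i).2.2.1,
    fun i => (N.poly_facts h2 i).2.2.2.2, ?_, fun i l hl => ?_⟩
  · refine Eq.trans (Finset.sum_congr rfl fun i _ => ?_) (?_ : ∑ i : Fin (Fintype.card κ),
      (((i : ℕ) + 1) * Fintype.card (Diag N.dp ((i : ℕ) + 1)) +
        (((i : ℕ) + 1) * Fintype.card (Diag N.dm ((i : ℕ) + 1)) + ((i : ℕ) + 1) * (restTuple N.C0 i).natDegree)) = _)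
    · rw [← Nat.mul_add, ← Nat.mul_add]
      congr 1
      show (N.poly i).natDegree + _ = _
      rw [(N.poly_facts h2 i).2.2.2.1, ← piece_weight h2 hδ N.hp i, ← piece_weight h2 hδ N.hm i]
      simp only [Normal.code, Normal.bits, Fin.sum_univ_four, Matrix.cons_val_zero, Matrix.cons_val_one,
        Matrix.cons_val_two, Matrix.cons_val_three, Matrix.head_cons, Matrix.tail_cons]
      omega
    · rw [Finset.sum_add_distrib, Finset.sum_add_distrib, sum_fibres N.hp.pos N.le_card.1,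
        sum_fibres N.hm.pos N.le_card.2.1, N.rest_sum]
      exact N.card_eq
  · have key : ∀ {t : ℕ} {d : Fin t → ℕ} (K : Matrix (Idx d) (Idx d) F),
        ((piece δ K i).2.1 = true → IsSlot δ i) ∧ ((piece δ K i).2.2 = true → IsSlot δ i) :=
      fun K => ⟨fun h => slotB_eq_true.1 (enc_bit.1 h), fun h => slotB_eq_true.1 (enc_bit.2 h)⟩
    fin_cases l
    exacts [(key N.Hp).1 hl, (key N.Hp).2 hl, (key N.Hm).1 hl, (key N.Hm).2 hl]

theorem rootMultiplicity_code {c c' : F} (hcc : c ≠ c') {g : F[X]} (hg : g.eval c ≠ 0) (a b : ℕ) :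
    rootMultiplicity c ((X - C c) ^ a * (X - C c') ^ b * g) = a := by
  have hne : (X - C c') ^ b * g ≠ 0 :=
    mul_ne_zero (pow_ne_zero _ (X_sub_C_ne_zero c')) (fun h => hg (by rw [h, eval_zero]))
  rw [mul_assoc, rootMultiplicity_mul (mul_ne_zero (pow_ne_zero _ (X_sub_C_ne_zero c)) hne),
    rootMultiplicity_X_sub_C_pow, rootMultiplicity_eq_zero, add_zero]
  simp [IsRoot, hg, sub_ne_zero.2 hcc]

/-- The invariants of two normal forms with the same code agree. -/
theorem Normal.inv_of_code {A' H' : Matrix κ κ F} (N : Normal δ A H) (M : Normal δ A' H') (h2 : (2 : F) ≠ 0)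
    (hδ : δ = 1 ∨ δ = -1) (h : N.code = M.code) :
    (∀ i, Fintype.card (Diag N.dp i) = Fintype.card (Diag M.dp i) ∧
      (δ * (-1 : F) ^ (i - 1) = 1 → (IsSquare (formG N.Hp i).det ↔ IsSquare (formG M.Hp i).det))) ∧
    (∀ i, Fintype.card (Diag N.dm i) = Fintype.card (Diag M.dm i) ∧
      (δ * (-1 : F) ^ (i - 1) = 1 → (IsSquare (formG N.Hm i).det ↔ IsSquare (formG M.Hm i).det))) ∧
    N.r = M.r ∧ restTuple N.C0 = restTuple M.C0 := by
  classical
  have hone : (1 : F) ≠ -1 := fun h => h2 (by linear_combination h)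
  have hall : ∀ i : ℕ, i < Fintype.card κ → piece δ N.Hp i = piece δ M.Hp i ∧ piece δ N.Hm i = piece δ M.Hm i ∧
      restTuple N.C0 i = restTuple M.C0 i := by
    intro i hi
    have hp : N.poly i = M.poly i := congrFun (congrArg Prod.fst h) ⟨i, hi⟩
    have hb : N.bits i = M.bits i := congrFun (congrArg Prod.snd h) ⟨i, hi⟩
    obtain ⟨-, hT, -, -⟩ := N.rest_props
    obtain ⟨-, hT', -, -⟩ := M.rest_props
    have e1 := congrArg (rootMultiplicity (1 : F)) hp
    rw [Normal.poly, Normal.poly, rootMultiplicity_code hone (hT i).2.2.2.1,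
      rootMultiplicity_code hone (hT' i).2.2.2.1] at e1
    have e2 := congrArg (rootMultiplicity (-1 : F)) hp
    rw [Normal.poly, Normal.poly, mul_comm ((X - C (1 : F)) ^ _) _, mul_comm ((X - C (1 : F)) ^ _) _,
      rootMultiplicity_code hone.symm (hT i).2.2.2.2, rootMultiplicity_code hone.symm (hT' i).2.2.2.2] at e2
    refine ⟨Prod.ext (by omega) (Prod.ext ?_ ?_), Prod.ext (by omega) (Prod.ext ?_ ?_), ?_⟩
    · exact congrFun hb 0
    · exact congrFun hb 1
    · exact congrFun hb 2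
    · exact congrFun hb 3
    · rw [Normal.poly, Normal.poly, e1, e2] at hp
      exact mul_left_cancel₀ (mul_ne_zero (pow_ne_zero _ (X_sub_C_ne_zero _)) (pow_ne_zero _ (X_sub_C_ne_zero _))) hp
  have hbig : ∀ {t : ℕ} {d : Fin t → ℕ}, (∀ k, 1 ≤ d k) → (∀ k, d k ≤ Fintype.card κ) → ∀ i,
      ¬ (1 ≤ i ∧ i ≤ Fintype.card κ) → IsEmpty (Diag d i) := fun h3 h4 i hi => ⟨fun k => hi (by
    rw [← k.2]; exact ⟨h3 _, h4 _⟩)⟩
  have hcmp : ∀ {t t' : ℕ} {d : Fin t → ℕ} {d' : Fin t' → ℕ} {K : Matrix (Idx d) (Idx d) F}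
      {K' : Matrix (Idx d') (Idx d') F}, SForm idF δ d K → SForm idF δ d' K' → (∀ k, d k ≤ Fintype.card κ) →
      (∀ k, d' k ≤ Fintype.card κ) → (∀ i, i < Fintype.card κ → piece δ K i = piece δ K' i) → ∀ i,
      Fintype.card (Diag d i) = Fintype.card (Diag d' i) ∧
        (δ * (-1 : F) ^ (i - 1) = 1 → (IsSquare (formG K i).det ↔ IsSquare (formG K' i).det)) := by
    intro t t' d d' K K' hK hK' hd hd' hpe i
    by_cases hi : 1 ≤ i ∧ i ≤ Fintype.card κ
    · obtain ⟨j, rfl⟩ : ∃ j, i = j + 1 := ⟨i - 1, by omega⟩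
      obtain ⟨h3, h4⟩ := piece_inj h2 hδ hK hK' j (hpe j (by omega))
      exact ⟨h3, fun hs => h4 (by rwa [Nat.add_sub_cancel] at hs)⟩
    · haveI := hbig hK.pos hd i hi
      haveI := hbig hK'.pos hd' i hi
      refine ⟨by rw [Fintype.card_eq_zero, Fintype.card_eq_zero], fun _ => ?_⟩
      rw [Matrix.det_isEmpty, Matrix.det_isEmpty]
  have hTT : restTuple N.C0 = restTuple M.C0 := funext fun i => by
    rcases Nat.lt_or_ge i (Fintype.card κ) with hi | hi
    · exact (hall i hi).2.2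
    · rw [N.rest_props.2.2.2 i (by have := N.le_card.2.2; omega),
        M.rest_props.2.2.2 i (by have := M.le_card.2.2; omega)]
  have hr : N.r = M.r := by rw [← N.rest_sum, ← M.rest_sum, hTT]
  have hP := hcmp N.hp M.hp N.le_card.1 M.le_card.1 fun i hi => (hall i hi).1
  have hM := hcmp N.hm M.hm N.le_card.2.1 M.le_card.2.1 fun i hi => (hall i hi).2.1
  exact ⟨hP, hM, hr, hTT⟩

/-- Pairs with the same code are equivalent. -/
theorem Normal.iso_of_code {A' H' : Matrix κ κ F} (N : Normal δ A H) (M : Normal δ A' H') (h2 : (2 : F) ≠ 0)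
    (hδ : δ = 1 ∨ δ = -1) (h : N.code = M.code) : Iso A H A' H' := by
  obtain ⟨hP, hM, hr, hTT⟩ := N.inv_of_code M h2 hδ h
  exact Normal.iso_of_eq h2 hδ N M (fun i => (hP i).1) (fun i => (hM i).1) (fun i => (hP i).2) (fun i => (hM i).2)
    hr (similar_of_restTuple N.rest_props.1 M.rest_props.1 hr hTT)

end Normal

end CfsgLib.FgsC.FormClasses
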