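import Cfsg.Agent.Lib.FgsC.FormClasses.Jordan

/-!
Invariant forms on one Jordan type are congruent in the commutant as soon as the forms on the multiplicity
spaces are.
-/

set_option autoImplicit false
set_option linter.unusedSectionVars false

namespace CfsgLib.FgsC.FormClasses

open Matrix CfsgLib.KnownB.JordanCent CfsgLib.Classical.Unitary CfsgLib.KnownB.UnitJordan

universe u

variable {F : Type u} [Field F] {σ : F →+* F} {δ : F} {t : ℕ} {d : Fin t → ℕ}

theorem SForm.formG_mul {H : Matrix (Idx d) (Idx d) F} (hH : SForm σ δ d H) {N : Matrix (Idx d) (Idx d) F}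
    (hN : Com N) (i : ℕ) : formG (H * N) i = formG H i * blkM hH.pos N i := by
  classical
  ext ⟨l, hl⟩ ⟨l', hl'⟩
  have hi : 1 ≤ i := hl ▸ hH.pos l
  show ent (H * N) l 0 l' (i - 1) = _
  rw [ent_eq _ (hH.pos l) (show i - 1 < d l' by omega), Matrix.mul_apply, Fintype.sum_sigma, Matrix.mul_apply]
  have eR : ∀ k : Fin t, ∑ x : Fin (d k),
      H ⟨l, ⟨0, hH.pos l⟩⟩ ⟨k, x⟩ * N ⟨k, x⟩ ⟨l', ⟨i - 1, by omega⟩⟩ =
        if d k = i then ent H l 0 k (i - 1) * N ⟨k, ⟨0, hH.pos k⟩⟩ ⟨l', ⟨0, hH.pos l'⟩⟩ else 0 := by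
    intro k
    have := hH.pos k
    rw [Finset.sum_eq_single (⟨d k - 1, by omega⟩ : Fin (d k))]
    · rw [entry_zero d hH.pos hN.eq (i - 1) l' (by omega), ← ent_eq H (hH.pos l) (show d k - 1 < d k by omega)]
      split_ifs with h1 h2 h2
      · exact congr_arg₂ (· * ·) (congrArg (ent H l 0 k) (show d k - 1 = i - 1 by omega))
          (congrArg (fun a => N ⟨k, a⟩ ⟨l', ⟨0, hH.pos l'⟩⟩)
            (Fin.ext (by show d k - 1 - (i - 1) = 0; omega)))
      · rcases lt_or_gt_of_ne h2 with hk' | hk'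
        · change i - 1 ≤ d k - 1 at h1
          omega
        · rw [hH.vanish' (x := 0) (y := d k - 1) (by omega), zero_mul]
      · change ¬ i - 1 ≤ d k - 1 at h1
        omega
      · exact mul_zero _
    · intro x _ hx
      have hx' : (x : ℕ) ≠ d k - 1 := fun e => hx (Fin.ext e)
      have := x.isLt
      rw [entry_zero d hH.pos hN.eq (i - 1) l' (by omega)]
      split_ifs with h1
      · change i - 1 ≤ (x : ℕ) at h1
        rw [kill d hH.pos hN.eq _ l' (by show (x : ℕ) - (i - 1) + d l' < d k; omega), mul_zero]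
      · exact mul_zero _
    · simp
  simp only [eR, ← Finset.sum_filter]
  exact Finset.sum_subtype (p := fun j => d j = i) _ (by simp) _

/-- Congruent multiplicity forms give forms congruent in the commutant. -/
theorem congr_same {H H' : Matrix (Idx d) (Idx d) F} (hH : SForm σ δ d H) (hH' : SForm σ δ d H')
    (h2 : ∀ x, σ (σ x) = x) {ε : F} (hε : ε + σ ε = 1)
    (hX : ∀ i, ∃ X : Matrix (Diag d i) (Diag d i) F, cT σ X * formG H' i * X = formG H i) :
    ∃ M : Matrix (Idx d) (Idx d) F, Com M ∧ cT σ M * H' * M = H := by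
  classical
  choose X hX using hX
  have hpos := hH'.pos
  let v : Par d → F := fun z =>
    if h : d z.1.1.1 = d z.1.2 then X (d z.1.1.1) ⟨z.1.1.1, rfl⟩ ⟨z.1.2, h.symm⟩ else 0
  have hMc : Com (mk d v) := commute_mk d v
  have key : ∀ (i j : ℕ) (e : i = j) (k l : Fin t) (h1 : d k = i) (h2 : d l = i),
      X i ⟨k, h1⟩ ⟨l, h2⟩ = X j ⟨k, e ▸ h1⟩ ⟨l, e ▸ h2⟩ := by
    rintro i j rfl k l h1 h2
    rfl
  have hb : ∀ i, blkM hpos (mk d v) i = X i := by
    intro i
    ext ⟨k, hk⟩ ⟨l, hl⟩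
    simp only [blkM, mk, Matrix.of_apply, Nat.sub_self]
    rw [dif_pos ⟨le_rfl, by rw [zero_add, hk, hl]⟩]
    refine (dif_pos (hk.trans hl.symm)).trans ?_
    exact key _ i hk k l rfl (hl.trans hk.symm)
  have hXd : ∀ i, (X i).det ≠ 0 := fun i h0 => formG_det_ne hH i (by
    rw [← hX i, Matrix.det_mul, h0, mul_zero])
  have hMd : IsUnit (mk d v).det := isUnit_iff_ne_zero.2
    (det_ne_zero_of_blk hpos hMc.eq fun i => by rw [hb]; exact hXd i)
  set M := mk d v
  -- the ratio of the two forms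
  have hu' := hH'.unit_det
  set a := H'⁻¹ * H with ha
  have hHa : H' * a = H := by
    rw [ha, ← Matrix.mul_assoc, Matrix.mul_nonsing_inv H' hu', Matrix.one_mul]
  obtain ⟨J, hJ⟩ : ∃ J : Matrix (Idx d) (Idx d) F, J = 1 + shift d F := ⟨_, rfl⟩
  have haJ : a * J = J * a := by
    have e1 : cT σ J * H' * J = H' := by rw [hJ]; exact hH'.inv
    have e2 : cT σ J * H * J = H := by rw [hJ]; exact hH.inv
    have e3 : cT σ J * H' * (J * a) = cT σ J * H' * (a * J) := by
      calc cT σ J * H' * (J * a) = cT σ J * H' * J * a := (Matrix.mul_assoc _ _ _).symm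
        _ = cT σ J * H * J := by rw [e1, hHa, e2]
        _ = cT σ J * (H' * a) * J := by rw [hHa]
        _ = _ := by simp only [Matrix.mul_assoc]
    have hu : IsUnit (cT σ J * H').det := isUnit_of_mul_isUnit_left
      (y := J.det) (by rw [← Matrix.det_mul, e1]; exact hu')
    have h := congrArg ((cT σ J * H')⁻¹ * ·) e3
    simpa only [← Matrix.mul_assoc, Matrix.nonsing_inv_mul _ hu, Matrix.one_mul] using h.symm
  have hac : Com a := by
    rw [hJ, Matrix.mul_add, Matrix.add_mul, Matrix.mul_one, Matrix.one_mul] at haJ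
    exact add_left_cancel haJ
  have has : adj σ H' a = a := by
    rw [hH'.adj_eq_iff, hHa]
    have h := congrArg (cT σ) hHa
    rw [cT_mul, hH'.herm, hH.herm, Matrix.mul_smul] at h
    exact smul_right_injective (Matrix (Idx d) (Idx d) F) hH'.delta_ne h
  -- normalise the ratio
  obtain ⟨A, hA⟩ : ∃ A, A = adj σ H' M := ⟨_, rfl⟩
  have hAc : Com A := hA ▸ hH'.com_adj hMc
  have hAd : IsUnit A.det := by
    refine isUnit_iff_ne_zero.2 ?_
    rw [hA, adj, Matrix.det_mul, Matrix.det_mul, det_cT]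
    exact mul_ne_zero (mul_ne_zero (Matrix.isUnit_nonsing_inv_det H' hu').ne_zero
      ((map_ne_zero σ).2 hMd.ne_zero)) hu'.ne_zero
  obtain ⟨b, hb'⟩ : ∃ b, b = A⁻¹ * a * M⁻¹ := ⟨_, rfl⟩
  have hAbM : A * b * M = a := by
    rw [hb', ← Matrix.mul_assoc, ← Matrix.mul_assoc, Matrix.mul_nonsing_inv A hAd, Matrix.one_mul,
      Matrix.mul_assoc, Matrix.nonsing_inv_mul M hMd, Matrix.mul_one]
  have hbc : Com b := hb' ▸ ((hAc.inv hAd).mul_left hac).mul_left (hMc.inv hMd)
  have hbs : adj σ H' b = b := by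
    rw [hb', hH'.adj_mul, hH'.adj_mul, hH'.adj_inv hMd, hH'.adj_inv hAd, has, ← hA, hA, hH'.adj_adj h2,
      ← Matrix.mul_assoc]
  have hbb : ∀ i, blkM hpos b i = 1 := by
    intro i
    have hd' : IsUnit (cT σ (X i) * formG H' i).det := by
      rw [Matrix.det_mul, det_cT]
      exact isUnit_iff_ne_zero.2 (mul_ne_zero ((map_ne_zero σ).2 (hXd i)) (formG_det_ne hH' i))
    have e1 : cT σ (X i) * formG H' i * (blkM hpos b i * X i) = cT σ (X i) * formG H' i * X i := by
      rw [hX i, ← hHa, hH'.formG_mul hac, ← hAbM, blkM_mul hpos (hAc.mul_left hbc).eq hMc.eq,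
        blkM_mul hpos hAc.eq hbc.eq, hb]
      have e := hH'.blk_adj hMc i
      rw [hb, ← hA] at e
      rw [e]
      simp only [Matrix.mul_assoc]
    have h := congrArg ((cT σ (X i) * formG H' i)⁻¹ * ·) e1
    simp only [← Matrix.mul_assoc, Matrix.nonsing_inv_mul _ hd', Matrix.one_mul] at h
    have h' := congrArg (· * (X i)⁻¹) h
    simpa only [Matrix.mul_assoc, Matrix.mul_nonsing_inv _ (isUnit_iff_ne_zero.2 (hXd i)), Matrix.mul_one] using h'
  obtain ⟨g, hgc, -, hge⟩ := hH'.exists_root hε h2 (b - 1)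
    ⟨hbc.sub_left Com.one, fun i => by rw [blkM_sub, hbb, blkM_one, sub_self]⟩
    (by rw [hH'.adj_sub, hbs, hH'.adj_one])
  rw [add_sub_cancel] at hge
  refine ⟨g * M, hgc.mul_left hMc, ?_⟩
  rw [← hHa, ← hH'.mul_adj, hH'.adj_mul, ← hAbM, ← hge, hA]
  simp only [Matrix.mul_assoc]

end CfsgLib.FgsC.FormClasses
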