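import Cfsg.Agent.Lib.FgsC.FormClasses.Code
import Mathlib.Analysis.SpecificLimits.Basic

/-!
The number of codes, and the numerical bounds on the products that occur.
-/

set_option autoImplicit false
set_option linter.unusedSectionVars false

namespace CfsgLib.FgsC.FormClasses

open Polynomial Finset

universe u

/-- Shapes of codes: degrees and bits. -/
def shapes (N : ℕ) (s : ℕ → Bool) : Finset ((Fin N → Fin (N + 1)) × (Fin N → Fin 4 → Bool)) :=
  Finset.univ.filter fun z => (∑ i : Fin N, ((i : ℕ) + 1) * (2 * (z.1 i : ℕ) + ∑ l, bw (z.2 i l)) = N) ∧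
    ∀ i l, z.2 i l = true → s i = true

/-- The number of codes. -/
def codeSum (q N : ℕ) (s : ℕ → Bool) : ℕ := ∑ z ∈ shapes N s, q ^ ∑ i, (z.1 i : ℕ)

section Poly

variable {F : Type u} [Field F] [Fintype F] {N : ℕ} {δ : F}

theorem card_codes_le_of (s : ℕ → Bool) :
    Finite {z // IsCode N δ z ∧ ∀ i l, z.2 i l = true → s i = true} ∧
      Nat.card {z // IsCode N δ z ∧ ∀ i l, z.2 i l = true → s i = true} ≤ codeSum (Fintype.card F) N s := by
  classical
  have hle : ∀ (z : {z // IsCode N δ z ∧ ∀ i l, z.2 i l = true → s i = true}) (i : Fin N), (z.1.1 i).natDegree / 2 < N + 1 := fun z i => by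
    have h := Finset.single_le_sum (f := fun i : Fin N => ((i : ℕ) + 1) * ((z.1.1 i).natDegree + ∑ l, bw (z.1.2 i l)))
      (fun _ _ => Nat.zero_le _) (Finset.mem_univ i)
    rw [z.2.1.weight] at h
    have h1 : (z.1.1 i).natDegree + ∑ l, bw (z.1.2 i l) ≤
        ((i : ℕ) + 1) * ((z.1.1 i).natDegree + ∑ l, bw (z.1.2 i l)) := Nat.le_mul_of_pos_left _ (Nat.succ_pos _)
    omega
  let sh : {z // IsCode N δ z ∧ ∀ i l, z.2 i l = true → s i = true} → (Fin N → Fin (N + 1)) × (Fin N → Fin 4 → Bool) :=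
    fun z => (fun i => ⟨(z.1.1 i).natDegree / 2, hle z i⟩, z.1.2)
  have hsh : ∀ z, sh z ∈ shapes N (s) := fun z => by
    refine Finset.mem_filter.2 ⟨Finset.mem_univ _, ?_, z.2.2⟩
    refine Eq.trans (Finset.sum_congr rfl fun i _ => ?_) z.2.1.weight
    congr 2
    exact Nat.two_mul_div_two_of_even (z.2.1.even i)
  let f : {z // IsCode N δ z ∧ ∀ i l, z.2 i l = true → s i = true} → Σ y : shapes N (s), (i : Fin N) → Fin (y.1.1 i : ℕ) → F :=
    fun z => ⟨⟨sh z, hsh z⟩, fun i k => (z.1.1 i).coeff ((k : ℕ) + 1)⟩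
  have hinj : Function.Injective f := by
    intro z w h
    have h1 : sh z = sh w := congrArg (fun y => y.1.1) h
    have hb : z.1.2 = w.1.2 := (Prod.ext_iff.1 h1).2
    let proj : (Σ y : shapes N (s), (i : Fin N) → Fin (y.1.1 i : ℕ) → F) → Fin N → ℕ → F :=
      fun y i k => if hk : k < (y.1.1.1 i : ℕ) then y.2 i ⟨k, hk⟩ else 0
    refine Subtype.ext (Prod.ext (funext fun i => ?_) hb)
    have hd : (z.1.1 i).natDegree / 2 = (w.1.1 i).natDegree / 2 :=
      congrArg Fin.val (congrFun (congrArg Prod.fst h1) i)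
    have hd' : (z.1.1 i).natDegree = (w.1.1 i).natDegree := by
      obtain ⟨a, ha⟩ := z.2.1.even i
      obtain ⟨b, hb⟩ := w.2.1.even i
      omega
    have hlo : ∀ k, k ≤ (z.1.1 i).natDegree / 2 → (z.1.1 i).coeff k = (w.1.1 i).coeff k := by
      intro k hk
      rcases k with _ | k
      · rw [z.2.1.coeff0, w.2.1.coeff0]
      · have h2 := congrFun (congrFun (congrArg proj h) i) k
        simp only [proj, f, sh] at h2
        rwa [dif_pos (show k < (z.1.1 i).natDegree / 2 by omega),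
          dif_pos (show k < (w.1.1 i).natDegree / 2 by omega)] at h2
    refine Polynomial.ext fun k => ?_
    rcases le_or_gt k ((z.1.1 i).natDegree / 2) with hk | hk
    · exact hlo k hk
    rcases le_or_gt k (z.1.1 i).natDegree with hk2 | hk2
    · have e1 := congrArg (fun g : F[X] => g.coeff k) (z.2.1.fixed i)
      have e2 := congrArg (fun g : F[X] => g.coeff k) (w.2.1.fixed i)
      simp only [SUClasses.coeff_tl _ hk2] at e1
      simp only [SUClasses.coeff_tl _ (hd' ▸ hk2)] at e2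
      simp only [z.2.1.coeff0, w.2.1.coeff0, map_one, inv_one, one_mul, RingHom.id_apply] at e1 e2
      rw [← e1, ← e2, ← hd']
      exact hlo _ (by omega)
    · rw [coeff_eq_zero_of_natDegree_lt hk2, coeff_eq_zero_of_natDegree_lt (hd' ▸ hk2)]
  refine ⟨Finite.of_injective f hinj, (Nat.card_le_card_of_injective f hinj).trans (le_of_eq ?_)⟩
  rw [Nat.card_sigma, codeSum, ← Finset.sum_coe_sort (shapes N (s))]
  refine Finset.sum_congr rfl fun y _ => ?_
  rw [Nat.card_pi, ← Finset.prod_pow_eq_pow_sum]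
  refine Finset.prod_congr rfl fun i _ => ?_
  rw [Nat.card_fun, Nat.card_eq_fintype_card, Nat.card_fin]

theorem card_codes_le :
    Finite {z // IsCode N δ z} ∧ Nat.card {z // IsCode N δ z} ≤ codeSum (Fintype.card F) N (slotB δ) := by
  obtain ⟨hfin, hc⟩ := card_codes_le_of (F := F) (N := N) (δ := δ) (slotB δ)
  let e : {z // IsCode N δ z ∧ ∀ i l, z.2 i l = true → slotB δ i = true} ≃ {z // IsCode N δ z} :=
    Equiv.subtypeEquivRight fun z => ⟨fun h => h.1, fun h => ⟨h, fun i l hb => slotB_eq_true.2 (h.bit i l hb)⟩⟩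
  exact ⟨Finite.of_equiv _ e, (Nat.card_congr e).symm.trans_le hc⟩

end Poly

/-! ### The generating products -/

section Series

/-- Weight of a bit at block size `i + 1`. -/
def bitW (s : ℕ → Bool) (t : ℝ) (i : ℕ) (b : Bool) : ℝ := if b then (if s i then t ^ (i + 1) else 0) else 1

/-- Weight of a degree. -/
def degW (t : ℝ) (i M : ℕ) : ℝ := if i = 0 then (if M = 0 then 1 else 0) else (t ^ 2) ^ (i * M)

/-- Weight of a shape. -/
def shapeW (N : ℕ) (s : ℕ → Bool) (t : ℝ) (f : Fin N → Fin (N + 1) × (Fin 4 → Bool)) : ℝ :=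
  ∏ i : Fin N, (degW t i (f i).1 * ∏ l, bitW s t i ((f i).2 l))

/-- The product. -/
def prodW (N : ℕ) (s : ℕ → Bool) (t : ℝ) : ℝ :=
  ∏ i : Fin N, ((∑ M : Fin (N + 1), degW t i M) * (bitW s t i true + 1) ^ 4)

theorem sum_shapeW (N : ℕ) (s : ℕ → Bool) (t : ℝ) : ∑ f, shapeW N s t f = prodW N s t := by
  rw [prodW]
  simp only [shapeW]
  refine (Fintype.prod_sum fun (i : Fin N) (p : Fin (N + 1) × (Fin 4 → Bool)) =>
    degW t i p.1 * ∏ l, bitW s t i (p.2 l)).symm.trans ?_
  refine Finset.prod_congr rfl fun i _ => ?_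
  rw [Fintype.sum_prod_type, Finset.sum_mul]
  refine Finset.sum_congr rfl fun M _ => ?_
  dsimp only
  rw [← Finset.mul_sum, ← Fintype.prod_sum fun (_ : Fin 4) (b : Bool) => bitW s t i b, Fintype.sum_bool,
    Finset.prod_const, Finset.card_univ, Fintype.card_fin, show bitW s t i false = 1 from rfl]

/-- Forget the first degree. -/
def forget {N : ℕ} (z : (Fin N → Fin (N + 1)) × (Fin N → Fin 4 → Bool)) : Fin N → Fin (N + 1) × (Fin 4 → Bool) :=
  fun i => (if (i : ℕ) = 0 then 0 else z.1 i, z.2 i)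

theorem forget_injOn (N : ℕ) (s : ℕ → Bool) : Set.InjOn (forget (N := N)) (shapes N s) := by
  intro z hz w hw h
  obtain ⟨hzs, -⟩ := (Finset.mem_filter.1 hz).2
  obtain ⟨hws, -⟩ := (Finset.mem_filter.1 hw).2
  have hb : z.2 = w.2 := funext fun i => congrArg Prod.snd (congrFun h i)
  have hM : ∀ i : Fin N, (i : ℕ) ≠ 0 → z.1 i = w.1 i := fun i hi => by
    have := congrArg Prod.fst (congrFun h i)
    simpa [forget, hi] using this
  refine Prod.ext (funext fun i => ?_) hb
  by_cases hi : (i : ℕ) = 0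
  · rw [← Finset.add_sum_erase _ _ (Finset.mem_univ i), hi] at hzs hws
    have e : ∑ j ∈ Finset.univ.erase i, ((j : ℕ) + 1) * (2 * (z.1 j : ℕ) + ∑ l, bw (z.2 j l)) =
        ∑ j ∈ Finset.univ.erase i, ((j : ℕ) + 1) * (2 * (w.1 j : ℕ) + ∑ l, bw (w.2 j l)) :=
      Finset.sum_congr rfl fun j hj => by
        rw [hb, hM j fun e => (Finset.mem_erase.1 hj).1 (Fin.ext (e.trans hi.symm))]
    rw [e, hb] at hzs
    apply Fin.ext
    omega
  · exact hM i hi

theorem codeSum_mul_pow {q : ℕ} {t : ℝ} (ht : t ^ 2 * q = 1) (N : ℕ) (s : ℕ → Bool) :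
    (codeSum q N s : ℝ) * t ^ N = ∑ f ∈ (shapes N s).image forget, shapeW N s t f := by
  rw [Finset.sum_image (forget_injOn N s), codeSum]
  push_cast
  rw [Finset.sum_mul]
  refine Finset.sum_congr rfl fun z hz => ?_
  obtain ⟨hw, hs⟩ := (Finset.mem_filter.1 hz).2
  have hsplit : N = 2 * (∑ i : Fin N, (z.1 i : ℕ)) +
      ∑ i : Fin N, (2 * ((i : ℕ) * (z.1 i : ℕ)) + ∑ l, ((i : ℕ) + 1) * bw (z.2 i l)) := by
    conv_lhs => rw [← hw]
    rw [Finset.mul_sum, ← Finset.sum_add_distrib]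
    refine Finset.sum_congr rfl fun i _ => ?_
    rw [← Finset.mul_sum]
    ring
  conv_lhs => arg 2; arg 2; rw [hsplit]
  rw [pow_add, pow_mul, ← mul_assoc, ← mul_pow, mul_comm (q : ℝ), ht, one_pow, one_mul,
    ← Finset.prod_pow_eq_pow_sum]
  refine Finset.prod_congr rfl fun i _ => ?_
  rw [pow_add, pow_mul, ← Finset.prod_pow_eq_pow_sum]
  congr 1
  · by_cases hi : (i : ℕ) = 0 <;> simp [forget, degW, hi]
  · refine Finset.prod_congr rfl fun l _ => ?_
    cases hb : z.2 i l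
    · simp [forget, bitW, hb, bw]
    · simp [forget, bitW, hb, bw, hs i l hb]

theorem shapeW_nonneg {t : ℝ} (ht : 0 ≤ t) (N : ℕ) (s : ℕ → Bool) (f) : 0 ≤ shapeW N s t f := by
  refine Finset.prod_nonneg fun i _ => mul_nonneg ?_ (Finset.prod_nonneg fun l _ => ?_)
  · unfold degW; split_ifs <;> positivity
  · unfold bitW; split_ifs <;> positivity

theorem abs_shapeW_neg {t : ℝ} (ht : 0 ≤ t) (N : ℕ) (s : ℕ → Bool) (f) :
    |shapeW N s (-t) f| = shapeW N s t f := by
  rw [shapeW, Finset.abs_prod]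
  refine Finset.prod_congr rfl fun i _ => ?_
  rw [abs_mul, Finset.abs_prod]
  congr 1
  · unfold degW
    rw [neg_sq]
    split_ifs <;> simp
  · refine Finset.prod_congr rfl fun l _ => ?_
    unfold bitW
    split_ifs <;> simp [abs_pow, abs_of_nonneg ht]

theorem codeSum_le_prodW {q : ℕ} {t : ℝ} (ht0 : 0 ≤ t) (ht : t ^ 2 * q = 1) (N : ℕ) (s : ℕ → Bool) :
    (codeSum q N s : ℝ) * t ^ N ≤ prodW N s t := by
  rw [codeSum_mul_pow ht, ← sum_shapeW]
  exact Finset.sum_le_sum_of_subset_of_nonneg (Finset.subset_univ _) fun f _ _ => shapeW_nonneg ht0 N s f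

/-- For even size only the shapes with an even bit weight occur. -/
theorem codeSum_le_average {q : ℕ} {t : ℝ} (ht0 : 0 ≤ t) (ht : t ^ 2 * q = 1) (n : ℕ) (s : ℕ → Bool) :
    2 * ((codeSum q (2 * n) s : ℝ) * t ^ (2 * n)) ≤ prodW (2 * n) s t + prodW (2 * n) s (-t) := by
  have h1 := codeSum_mul_pow ht (2 * n) s
  have h2 := codeSum_mul_pow (t := -t) (by rw [neg_sq]; exact ht) (2 * n) s
  rw [Even.neg_pow (even_two_mul n)] at h2
  rw [two_mul]
  nth_rw 1 [h1]
  rw [h2, ← Finset.sum_add_distrib, ← sum_shapeW, ← sum_shapeW, ← Finset.sum_add_distrib]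
  refine Finset.sum_le_sum_of_subset_of_nonneg (Finset.subset_univ _) fun f _ _ => ?_
  have := abs_shapeW_neg ht0 (2 * n) s f
  have := neg_abs_le (shapeW (2 * n) s (-t) f)
  linarith

theorem geom_le {x : ℝ} (h0 : 0 ≤ x) (h1 : x < 1) (n : ℕ) : ∑ M ∈ range n, x ^ M ≤ 1 / (1 - x) := by
  rw [one_div]
  exact sum_le_hasSum _ (fun i _ => pow_nonneg h0 i) (hasSum_geometric_of_lt_one h0 h1)

theorem degProd_le {t : ℝ} (ht : t ^ 2 ≤ 1 / 3) (N : ℕ) :
    ∏ i : Fin N, ∑ M : Fin (N + 1), degW t i M ≤ 17854 / 10000 := by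
  have hx0 : (0 : ℝ) ≤ t ^ 2 := sq_nonneg t
  set x : ℝ := 1 / 3 with hx
  let D : ℕ → ℝ := fun i => if i = 0 then 1 else 1 - x ^ i
  have hD : ∀ i, 0 < D i := fun i => by
    simp only [D]
    split_ifs with hi
    · exact one_pos
    · exact sub_pos.2 (pow_lt_one₀ (by norm_num [hx]) (by norm_num [hx]) hi)
  have hle : ∀ i : Fin N, ∑ M : Fin (N + 1), degW t i M ≤ 1 / D i := by
    intro i
    by_cases hi : (i : ℕ) = 0
    · simp [degW, D, hi, Fin.sum_univ_succ]
    · simp only [degW, D, if_neg hi, pow_mul]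
      rw [Fin.sum_univ_eq_sum_range (fun M => ((t ^ 2) ^ (i : ℕ)) ^ M)]
      have hlt : (t ^ 2) ^ (i : ℕ) ≤ x ^ (i : ℕ) := pow_le_pow_left₀ hx0 ht _
      have h3 : 0 < 1 - x ^ (i : ℕ) := by simpa [D, hi] using hD i
      refine (geom_le (by positivity) (by linarith) _).trans ?_
      exact one_div_le_one_div_of_le h3 (by linarith)
  refine (Finset.prod_le_prod (fun i _ => Finset.sum_nonneg fun M _ => by
    unfold degW; split_ifs <;> positivity) fun i _ => hle i).trans ?_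
  rw [Fin.prod_univ_eq_prod_range (fun i => 1 / D i) N, Finset.prod_div_distrib, Finset.prod_const_one]
  have hlow : ∀ k, (∏ i ∈ range 6, D i) * (1 - (x ^ 5 - x ^ (5 + k)) / 2) ≤ ∏ i ∈ range (6 + k), D i := by
    intro k
    induction k with
    | zero => simp
    | succ k ih =>
      rw [show 6 + (k + 1) = (6 + k) + 1 by omega, Finset.prod_range_succ _ (6 + k)]
      refine le_trans ?_ (mul_le_mul_of_nonneg_right ih (hD (6 + k)).le)
      have hA : 0 ≤ (x ^ 5 - x ^ (5 + k)) / 2 := by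
        exact div_nonneg (sub_nonneg.2 (pow_le_pow_of_le_one (by norm_num [hx]) (by norm_num [hx]) (by omega)))
          (by norm_num)
      have hP : 0 ≤ ∏ i ∈ range 6, D i := Finset.prod_nonneg fun i _ => (hD i).le
      rw [show D (6 + k) = 1 - x ^ (6 + k) by simp [D], mul_assoc]
      refine mul_le_mul_of_nonneg_left ?_ hP
      rw [show 5 + (k + 1) = 5 + k + 1 by omega, show 6 + k = 5 + k + 1 by omega, pow_succ x (5 + k), hx]
      have hp : (0 : ℝ) ≤ (1 / 3 : ℝ) ^ (5 + k) := by positivity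
      rw [hx] at hA
      nlinarith [mul_nonneg hA hp]
  have hmono : ∀ a b, a ≤ b → ∏ i ∈ range b, D i ≤ ∏ i ∈ range a, D i := by
    intro a b hab
    induction hab with
    | refl => exact le_rfl
    | step _ ih =>
      rw [Finset.prod_range_succ]
      refine le_trans (mul_le_of_le_one_right (Finset.prod_nonneg fun i _ => (hD i).le) ?_) ih
      simp only [D]
      split_ifs
      · exact le_rfl
      · exact sub_le_self _ (pow_nonneg (by norm_num [hx]) _)
  have hfin : 10000 / 17854 ≤ ∏ i ∈ range N, D i := by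
    refine le_trans ?_ (hmono N (6 + N) (by omega))
    refine le_trans ?_ (hlow N)
    have h6 : (∏ i ∈ range 6, D i) = 2 / 3 * (8 / 9) * (26 / 27) * (80 / 81) * (242 / 243) := by
      norm_num [Finset.prod_range_succ, D, hx]
    have hp : 0 ≤ x ^ (5 + N) := by positivity
    rw [h6, hx]
    rw [hx] at hp
    nlinarith
  rw [div_le_iff₀ (Finset.prod_pos fun i _ => hD i)]
  linarith

theorem evenBits_le {x : ℝ} (hx0 : 0 ≤ x) (hx : x ≤ 1 / 3) (n : ℕ) :
    ∏ j ∈ range n, (1 + x ^ (j + 1)) ≤ 15650 / 10000 := by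
  have hstep : ∀ k, (∏ j ∈ range (5 + k), (1 + (1 / 3 : ℝ) ^ (j + 1))) *
      (1 - ((1 / 3 : ℝ) ^ 5 - (1 / 3) ^ (5 + k)) / 2) ≤ ∏ j ∈ range 5, (1 + (1 / 3 : ℝ) ^ (j + 1)) := by
    intro k
    induction k with
    | zero => simp
    | succ k ih =>
      rw [show 5 + (k + 1) = 5 + k + 1 by omega, Finset.prod_range_succ _ (5 + k), pow_succ _ (5 + k), mul_assoc]
      refine le_trans (mul_le_mul_of_nonneg_left ?_ (Finset.prod_nonneg fun j _ => by positivity)) ih
      have hA : 0 ≤ ((1 / 3 : ℝ) ^ 5 - (1 / 3) ^ (5 + k)) / 2 := by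
        exact div_nonneg (sub_nonneg.2 (pow_le_pow_of_le_one (by norm_num) (by norm_num) (by omega))) (by norm_num)
      have hp : (0 : ℝ) ≤ (1 / 3 : ℝ) ^ (5 + k) := by positivity
      nlinarith [mul_nonneg hA hp, mul_nonneg hp hp]
  have h1 : ∏ j ∈ range n, (1 + x ^ (j + 1)) ≤ ∏ j ∈ range n, (1 + (1 / 3 : ℝ) ^ (j + 1)) :=
    Finset.prod_le_prod (fun j _ => by positivity) fun j _ => by
      have := pow_le_pow_left₀ hx0 hx (j + 1)
      linarith
  refine h1.trans ?_
  have h2 : ∏ j ∈ range n, (1 + (1 / 3 : ℝ) ^ (j + 1)) ≤ ∏ j ∈ range (5 + n), (1 + (1 / 3 : ℝ) ^ (j + 1)) :=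
    Finset.prod_le_prod_of_subset_of_one_le (Finset.range_subset_range.2 (by omega)) (fun j _ => by positivity)
      fun j _ _ => le_add_of_nonneg_right (by positivity)
  refine h2.trans ?_
  have h3 := hstep n
  have h5 : (∏ j ∈ range 5, (1 + (1 / 3 : ℝ) ^ (j + 1))) = 4 / 3 * (10 / 9) * (28 / 27) * (82 / 81) * (244 / 243) := by
    norm_num [Finset.prod_range_succ]
  have hp : (0 : ℝ) ≤ (1 / 3 : ℝ) ^ (5 + n) := by positivity
  have hpos : (0 : ℝ) ≤ ∏ j ∈ range (5 + n), (1 + (1 / 3 : ℝ) ^ (j + 1)) :=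
    Finset.prod_nonneg fun j _ => by positivity
  rw [h5] at h3
  nlinarith [mul_nonneg hpos hp]

end Series

end CfsgLib.FgsC.FormClasses
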