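import Cfsg.Agent.Lib.FgsC.FormClasses.Classes

/-!
Toggling one square class changes the discriminant: at most half of the codes, up to those without a class,
come from one symmetric form.
-/

set_option autoImplicit false
set_option linter.unusedSectionVars false

namespace CfsgLib.FgsC.FormClasses

open Matrix CfsgLib.KnownB.JordanCent CfsgLib.Classical.Unitary CfsgLib.KnownB.UnitJordan

universe u

variable {F : Type u} [Field F] {t : ℕ} {d : Fin t → ℕ}

local notation "idF" => RingHom.id F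

/-- The determinant of an element of the commutant. -/
theorem det_com (hd : ∀ k, 1 ≤ d k) {M : Matrix (Idx d) (Idx d) F} (hM : Com M) :
    M.det = ∏ i ∈ Finset.range (Finset.univ.sup d + 1), (blkM hd M i).det ^ i := by
  classical
  obtain ⟨D, hD⟩ : ∃ D, D = Finset.univ.sup d := ⟨_, rfl⟩
  have hle : ∀ k, d k ≤ D := fun k => hD ▸ Finset.le_sup (Finset.mem_univ k)
  let key : Idx d → ℕ := fun p => (D + 1) * (D - p.2) + d p.1
  have hkey : ∀ (p : Idx d) (i x : ℕ), i ≤ D → x < i → key p = (D + 1) * (D - x) + i → (p.2 : ℕ) = x ∧ d p.1 = i := by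
    rintro ⟨k, y⟩ i x hi hx h
    change (D + 1) * (D - (y : ℕ)) + d k = (D + 1) * (D - x) + i at h
    have hkD := hle k
    have hy := y.isLt
    rcases lt_trichotomy (D - (y : ℕ)) (D - x) with h1 | h1 | h1
    · have : (D + 1) * (D - (y : ℕ)) + (D + 1) ≤ (D + 1) * (D - x) := by
        rw [← Nat.mul_succ]; exact Nat.mul_le_mul_left _ h1
      omega
    · refine ⟨by show (y : ℕ) = x; omega, ?_⟩
      rw [h1] at h
      show d k = i
      omega
    · have : (D + 1) * (D - x) + (D + 1) ≤ (D + 1) * (D - (y : ℕ)) := by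
        rw [← Nat.mul_succ]; exact Nat.mul_le_mul_left _ h1
      omega
  have htri : M.BlockTriangular key := by
    rintro ⟨k, x⟩ ⟨l, b⟩ hlt
    rw [entry_zero d hd hM.eq b l b.isLt ⟨k, x⟩]
    split_ifs with h1
    · refine kill d hd hM.eq _ l ?_
      show (x : ℕ) - b + d l < d k
      change (b : ℕ) ≤ x at h1
      change (D + 1) * (D - (b : ℕ)) + d l < (D + 1) * (D - (x : ℕ)) + d k at hlt
      have := hle k
      have := hle l
      have := x.isLt
      rcases eq_or_lt_of_le h1 with e | hlt'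
      · rw [e] at hlt; omega
      · have h3 : (D + 1) * (D - (x : ℕ)) + (D + 1) ≤ (D + 1) * (D - (b : ℕ)) := by
          rw [← Nat.mul_succ]
          exact Nat.mul_le_mul_left _ (by omega)
        omega
    · rfl
  let P : Finset (ℕ × ℕ) := (Finset.range (D + 1) ×ˢ Finset.range (D + 1)).filter fun z => z.2 < z.1
  let Φ : ℕ × ℕ → ℕ := fun z => (D + 1) * (D - z.2) + z.1
  have hblock : ∀ z ∈ P, (M.toSquareBlock key (Φ z)).det = (blkM hd M z.1).det := by
    rintro ⟨i, x⟩ hz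
    obtain ⟨hz1, hx⟩ := Finset.mem_filter.1 hz
    change x < i at hx
    obtain ⟨hi, -⟩ := Finset.mem_product.1 hz1
    rw [Finset.mem_range] at hi
    let e : Diag d i ≃ {p : Idx d // key p = Φ (i, x)} :=
      { toFun := fun k => ⟨⟨k.1, ⟨x, by rw [k.2]; exact hx⟩⟩, by
          show (D + 1) * (D - x) + d k.1 = _; rw [k.2]⟩
        invFun := fun p => ⟨p.1.1, (hkey p.1 i x (by omega) hx p.2).2⟩
        left_inv := fun k => rfl
        right_inv := fun ⟨⟨k, y⟩, hp⟩ => Subtype.ext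
          (congrArg (Sigma.mk k) (Fin.ext (hkey _ i x (by omega) hx hp).1.symm)) }
    rw [← det_submatrix_equiv_self e]
    refine congrArg Matrix.det ?_
    ext k l
    show M ⟨k.1, ⟨x, _⟩⟩ ⟨l.1, ⟨x, _⟩⟩ = M ⟨k.1, ⟨0, _⟩⟩ ⟨l.1, ⟨0, _⟩⟩
    rw [entry_zero d hd hM.eq x l.1 (by rw [l.2]; exact hx), if_pos le_rfl]
    exact congrArg (fun a => M ⟨k.1, a⟩ _) (Fin.ext (Nat.sub_self x))
  rw [htri.det]
  have hsub : Finset.univ.image key ⊆ P.image Φ := by
    intro z hz
    obtain ⟨⟨k, x⟩, -, rfl⟩ := Finset.mem_image.1 hz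
    refine Finset.mem_image.2 ⟨(d k, x), Finset.mem_filter.2 ⟨Finset.mem_product.2 ⟨?_, ?_⟩, x.isLt⟩, rfl⟩ <;>
      rw [Finset.mem_range] <;> [skip; show (x : ℕ) < D + 1] <;> (have := hle k; have := x.isLt; omega)
  rw [Finset.prod_subset hsub fun z _ hz => ?_, Finset.prod_image, Finset.prod_congr rfl hblock]
  · simp only [P]
    rw [Finset.prod_filter, Finset.prod_product, ← hD]
    refine Finset.prod_congr rfl fun i hi => ?_
    rw [← Finset.prod_filter]
    have : (Finset.range (D + 1)).filter (fun x => x < i) = Finset.range i := by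
      ext x
      simp only [Finset.mem_filter, Finset.mem_range] at hi ⊢
      omega
    rw [this]
    show ∏ _a ∈ Finset.range i, (blkM hd M i).det = _
    rw [Finset.prod_const, Finset.card_range]
  · rintro ⟨i, x⟩ hz ⟨j, y⟩ hw h
    have h1 := Finset.mem_filter.1 hz
    have h2 := Finset.mem_filter.1 hw
    simp only [Finset.mem_product, Finset.mem_range] at h1 h2
    change (D + 1) * (D - x) + i = (D + 1) * (D - y) + j at h
    have e1 := congrArg (· / (D + 1)) h
    simp only [Nat.mul_add_div (Nat.succ_pos D), Nat.div_eq_of_lt h1.1.1, Nat.div_eq_of_lt h2.1.1, add_zero] at e1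
    have : x = y := by omega
    subst this
    obtain rfl : i = j := by omega
    rfl
  · haveI : IsEmpty {p : Idx d // key p = z} := ⟨fun p => hz (Finset.mem_image.2 ⟨p.1, Finset.mem_univ _, p.2⟩)⟩
    exact det_isEmpty

variable [Fintype F]

theorem exists_nonsquare' (h2 : (2 : F) ≠ 0) : ∃ ν : F, ¬ IsSquare ν := by
  refine FiniteField.exists_nonsquare fun h => h2 ?_
  have := ringChar.Nat.cast_ringChar (R := F)
  rw [h] at this
  exact_mod_cast this

/-- Toggle the class at one odd block size. -/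
theorem exists_flip (h2 : (2 : F) ≠ 0) {H : Matrix (Idx d) (Idx d) F} (hH : SForm idF 1 d H) {i : ℕ} (hi : Odd i)
    (hne : Nonempty (Diag d i)) :
    ∃ H' : Matrix (Idx d) (Idx d) F, SForm idF 1 d H' ∧ (∀ j, j ≠ i → formG H' j = formG H j) ∧
      ¬ IsSquare ((formG H i).det * (formG H' i).det) ∧ ¬ IsSquare (H.det * H'.det) := by
  classical
  obtain ⟨ν, hν⟩ := exists_nonsquare' h2
  have hν0 : ν ≠ 0 := fun h => hν (h ▸ ⟨0, (mul_zero 0).symm⟩)
  obtain ⟨G, hG⟩ : ∃ G, G = formG H i := ⟨_, rfl⟩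
  have hGd : IsUnit G.det := hG ▸ isUnit_iff_ne_zero.2 (formG_det_ne hH i)
  have hGs : Gᵀ = G := by
    rw [hG, hH.sign, one_mul, (show Even (i - 1) by obtain ⟨m, rfl⟩ := hi; simp).neg_one_pow, one_smul]
  obtain ⟨k0⟩ := hne
  obtain ⟨G', hG'⟩ : ∃ G', G' = Matrix.diagonal (fun k : Diag d i => if k = k0 then ν * G.det else 1) := ⟨_, rfl⟩
  have hGd' : G'.det = ν * G.det := by rw [hG', det_diagonal, Finset.prod_ite_eq' Finset.univ k0, if_pos (Finset.mem_univ _)]
  obtain ⟨X0, hX0⟩ : ∃ X0, X0 = G⁻¹ * G' := ⟨_, rfl⟩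
  have hGX : G * X0 = G' := by rw [hX0, ← Matrix.mul_assoc, Matrix.mul_nonsing_inv _ hGd, Matrix.one_mul]
  have hXd : X0.det = ν := by
    refine mul_left_cancel₀ hGd.ne_zero ?_
    rw [← det_mul, hGX, hGd', mul_comm]
  let v : Par d → F := fun z =>
    if d z.1.1.1 = d z.1.2 then
      (if h : d z.1.1.1 = i ∧ d z.1.2 = i then X0 ⟨z.1.1.1, h.1⟩ ⟨z.1.2, h.2⟩
        else if z.1.1.1 = z.1.2 then 1 else 0)
    else 0
  have hpos := hH.pos
  have hMc : Com (mk d v) := commute_mk d v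
  have hbi : blkM hpos (mk d v) i = X0 := by
    ext ⟨k, hk⟩ ⟨l, hl⟩
    simp only [blkM, mk, Matrix.of_apply, Nat.sub_self]
    rw [dif_pos ⟨le_rfl, by rw [zero_add, hk, hl]⟩]
    exact (if_pos (hk.trans hl.symm)).trans (dif_pos ⟨hk, hl⟩)
  have hbj : ∀ j, j ≠ i → blkM hpos (mk d v) j = 1 := by
    intro j hj
    ext ⟨k, hk⟩ ⟨l, hl⟩
    simp only [blkM, mk, Matrix.of_apply, Nat.sub_self]
    rw [dif_pos ⟨le_rfl, by rw [zero_add, hk, hl]⟩]
    refine (if_pos (hk.trans hl.symm)).trans ((dif_neg (fun h => hj (hk.symm.trans h.1))).trans ?_)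
    simp [Matrix.one_apply, Subtype.ext_iff]
  obtain ⟨A, hA⟩ : ∃ A, A = adj idF H (mk d v) := ⟨_, rfl⟩
  have hAc : Com A := hA ▸ hH.com_adj hMc
  have hAb : ∀ j, blkM hpos A j = blkM hpos (mk d v) j := by
    intro j
    have h := hH.blk_adj hMc j
    rw [← hA, cT_id] at h
    have hu := isUnit_iff_ne_zero.2 (formG_det_ne hH j)
    have h' : formG H j * blkM hpos A j = formG H j * blkM hpos (mk d v) j := by
      rw [← h]
      rcases eq_or_ne j i with rfl | hj
      · rw [hbi, ← hG, hGX, ← hGs, ← transpose_mul, hGX, hG', diagonal_transpose]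
      · rw [hbj j hj, transpose_one, Matrix.one_mul, Matrix.mul_one]
    have := congrArg ((formG H j)⁻¹ * ·) h'
    simpa only [← Matrix.mul_assoc, Matrix.nonsing_inv_mul _ hu, Matrix.one_mul] using this
  obtain ⟨a, ha⟩ : ∃ a, a = (2 : F)⁻¹ • (mk d v + A) := ⟨_, rfl⟩
  have hac : Com a := ha ▸ (hMc.add_left hAc).smul_left _
  have hab : ∀ j, blkM hpos a j = blkM hpos (mk d v) j := fun j => by
    rw [ha, blkM_smul, blkM_add, hAb, ← two_smul F (blkM hpos (mk d v) j), smul_smul, inv_mul_cancel₀ h2, one_smul]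
  have has : adj idF H a = a := by
    rw [ha, hH.adj_smul, hH.adj_add, hA, hH.adj_adj (fun _ => rfl), RingHom.id_apply, add_comm]
  have hsym : (H * a)ᵀ = (1 : F) • (H * a) := by
    have h := hH.mul_adj a
    rw [has] at h
    rw [← cT_id, cT_mul, hH.herm, Matrix.mul_smul, ← h]
  have hadet : a.det ≠ 0 := det_ne_zero_of_blk hpos hac.eq fun j => by
    rw [hab]
    rcases eq_or_ne j i with rfl | hj
    · rw [hbi, hXd]; exact hν0
    · rw [hbj j hj, det_one]; exact one_ne_zero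
  have hinv : (1 + shift d F)ᵀ * (H * a) * (1 + shift d F) = H * a := by
    rw [Matrix.mul_assoc, Matrix.mul_assoc, ((Commute.one_right a).add_right hac).eq, ← Matrix.mul_assoc H,
      ← Matrix.mul_assoc, ← Matrix.mul_assoc, ← cT_id, hH.inv]
  refine ⟨H * a, ⟨hpos, one_ne_zero, hsym, by rw [det_mul]; exact mul_ne_zero hH.det_ne hadet, hinv⟩,
    fun j hj => ?_, ?_, ?_⟩
  · rw [hH.formG_mul hac, hab, hbj j hj, Matrix.mul_one]
  · rw [hH.formG_mul hac, hab, hbi, det_mul, hXd, ← mul_assoc]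
    exact fun h => hν ((CfsgLib.Geometry.isSquare_mul_sq_iff (formG_det_ne hH i)).1 h)
  · rw [det_mul, ← mul_assoc]
    refine fun h => hν ?_
    have h' := (CfsgLib.Geometry.isSquare_mul_sq_iff hH.det_ne).1 h
    rw [det_com hpos hac, Finset.prod_eq_single i, hab, hbi, hXd] at h'
    · obtain ⟨m, rfl⟩ := hi
      rw [pow_succ] at h'
      refine (CfsgLib.Geometry.isSquare_mul_sq_iff (pow_ne_zero m hν0)).1 ?_
      rw [← pow_add, ← two_mul]
      exact h'
    · intro j _ hj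
      rw [hab, hbj j hj, det_one, one_pow]
    · intro hmem
      exact absurd (Finset.mem_range.2 (Nat.lt_succ_of_le
        (by rw [← k0.2]; exact Finset.le_sup (Finset.mem_univ k0.1)))) hmem

/-! ### Toggling in a normal form -/

variable {κ : Type} [Fintype κ] [DecidableEq κ] {A H : Matrix κ κ F}

/-- Some class occurs. -/
def Normal.HasSlot {δ : F} (N : Normal δ A H) : Prop :=
  ∃ i, Odd i ∧ (Nonempty (Diag N.dp i) ∨ Nonempty (Diag N.dm i))

theorem det_congr_ne {α β : Type} [Fintype α] [DecidableEq α] [Fintype β] [DecidableEq β] (e : α ≃ β)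
    (R : Matrix β α F) (K : Matrix β β F) :
    (Rᵀ * K * R).det = (R.submatrix e id).det * (R.submatrix e id).det * K.det := by
  have h : Rᵀ * K * R = (R.submatrix e id)ᵀ * K.submatrix e e * R.submatrix e id := by
    rw [transpose_submatrix, submatrix_mul_equiv, submatrix_mul_equiv, submatrix_id_id]
  rw [h, det_mul, det_mul, det_transpose, det_submatrix_equiv_self]
  ring

/-- Replacing the forms of the unipotent pieces. -/
theorem Normal.exists_update (N : Normal (1 : F) A H) {Hp : Matrix (Idx N.dp) (Idx N.dp) F}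
    {Hm : Matrix (Idx N.dm) (Idx N.dm) F} (hp : SForm idF 1 N.dp Hp) (hm : SForm idF 1 N.dm Hm)
    (hsq : ¬ IsSquare (N.Hp.det * Hp.det * (N.Hm.det * Hm.det))) :
    ∃ (H' : Matrix κ κ F) (M : Normal (1 : F) A H'), ¬ IsSquare (H.det * H'.det) ∧
      ∃ (hP : M.tp = N.tp) (hM : M.tm = N.tm), (∀ i, Fintype.card (Diag M.dp i) = Fintype.card (Diag N.dp i)) ∧
      (∀ i, Fintype.card (Diag M.dm i) = Fintype.card (Diag N.dm i)) ∧
      (∀ i, (formG M.Hp i).det = (formG Hp i).det) ∧ (∀ i, (formG M.Hm i).det = (formG Hm i).det) ∧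
      M.r = N.r ∧ restTuple M.C0 = restTuple N.C0 := by
  classical
  obtain ⟨Q, R, h1, h2, h3, h4⟩ := N.iso
  let β := Idx N.dp ⊕ (Idx N.dm ⊕ Fin N.r)
  obtain ⟨K', hK'⟩ : ∃ K' : Matrix β β F, K' = fromBlocks Hp 0 0 (fromBlocks Hm 0 0 N.H0) := ⟨_, rfl⟩
  have hQK : Qᵀ * (Rᵀ * K' * R) * Q = K' := by
    calc _ = (R * Q)ᵀ * K' * (R * Q) := by rw [transpose_mul]; simp only [Matrix.mul_assoc]
      _ = K' := by rw [h2, transpose_one, Matrix.one_mul, Matrix.mul_one]
  refine ⟨Rᵀ * K' * R, ⟨N.tp, N.dp, Hp, N.tm, N.dm, Hm, N.r, N.C0, N.H0, hp, hm, N.h0, N.h0d, N.h0C, N.hC1, N.hC2,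
    ⟨Q, R, h1, h2, h3, hQK.trans hK'⟩⟩, ?_, rfl, rfl, fun i => rfl, fun i => rfl, fun i => rfl, fun i => rfl, rfl,
    rfl⟩
  let e : κ ≃ β := Fintype.equivOfCardEq (by
    rw [Fintype.card_sum, Fintype.card_sum, Fintype.card_fin]; exact N.card_eq.symm)
  have hHK : H = Rᵀ * fromBlocks N.Hp 0 0 (fromBlocks N.Hm 0 0 N.H0) * R := by
    rw [← h4]
    calc H = (Q * R)ᵀ * H * (Q * R) := by rw [h1, transpose_one, Matrix.one_mul, Matrix.mul_one]
      _ = _ := by rw [transpose_mul]; simp only [Matrix.mul_assoc]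
  have hRd : (R.submatrix e id).det ≠ 0 := by
    intro h0
    have := congrArg Matrix.det (show Q.submatrix id e * R.submatrix e id = (1 : Matrix κ κ F) by
      rw [submatrix_mul_equiv, h1, submatrix_id_id])
    rw [det_mul, h0, mul_zero, det_one] at this
    exact zero_ne_one this
  have hdH := (congrArg Matrix.det hHK).trans (det_congr_ne e R _)
  rw [hdH, hK', det_congr_ne e, det_fromBlocks_zero₂₁, det_fromBlocks_zero₂₁, det_fromBlocks_zero₂₁,
    det_fromBlocks_zero₂₁]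
  generalize hx : (R.submatrix e id).det = x at hRd ⊢
  intro hh
  apply hsq
  rw [show x * x * (N.Hp.det * (N.Hm.det * N.H0.det)) * (x * x * (Hp.det * (Hm.det * N.H0.det))) =
    (x * x * N.H0.det) * (x * x * N.H0.det) * (N.Hp.det * Hp.det * (N.Hm.det * Hm.det)) by ring] at hh
  exact (CfsgLib.Geometry.isSquare_mul_sq_iff (mul_ne_zero (mul_ne_zero hRd hRd) N.h0d)).1 hh

/-- The lowest block size with a class. -/
noncomputable def Normal.low {δ : F} (N : Normal δ A H) (h : N.HasSlot) : ℕ := by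
  classical
  exact Nat.find h

/-- The recorded relation between a normal form and its toggle. -/
def IsToggle {A' H' : Matrix κ κ F} (N : Normal (1 : F) A H) (M : Normal (1 : F) A' H') (i : ℕ) : Prop :=
  (∀ j, Fintype.card (Diag M.dp j) = Fintype.card (Diag N.dp j)) ∧
    (∀ j, Fintype.card (Diag M.dm j) = Fintype.card (Diag N.dm j)) ∧
    M.r = N.r ∧ restTuple M.C0 = restTuple N.C0 ∧
    (∀ j, Odd j → ((IsSquare (formG M.Hp j).det ↔ IsSquare (formG N.Hp j).det) ↔
      ¬ (j = i ∧ Nonempty (Diag N.dp i)))) ∧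
    (∀ j, Odd j → ((IsSquare (formG M.Hm j).det ↔ IsSquare (formG N.Hm j).det) ↔
      ¬ (j = i ∧ ¬ Nonempty (Diag N.dp i))))

theorem Normal.exists_toggle (N : Normal (1 : F) A H) (h2 : (2 : F) ≠ 0) (h : N.HasSlot) :
    ∃ (H' : Matrix κ κ F) (M : Normal (1 : F) A H'), ¬ IsSquare (H.det * H'.det) ∧ IsToggle N M (N.low h) := by
  classical
  obtain ⟨hodd, hor⟩ := Nat.find_spec h
  set i := N.low h with hi
  have hflip : ∀ {x y : F}, x ≠ 0 → y ≠ 0 → ¬ IsSquare (x * y) → ¬ (IsSquare y ↔ IsSquare x) :=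
    fun hx hy hn e => hn ((isSquare_mul_iff hx hy).2 e.symm)
  by_cases hp : Nonempty (Diag N.dp i)
  · obtain ⟨Hp, hHp, hs, hsi, hdet⟩ := exists_flip h2 N.hp (i := i) hodd hp
    obtain ⟨H', M, hns, -, -, e1, e2, e3, e4, e5, e6⟩ := N.exists_update hHp N.hm (by
      rw [mul_comm (_ * _) (N.Hm.det * _)]
      exact fun hh => hdet ((CfsgLib.Geometry.isSquare_mul_sq_iff N.hm.det_ne).1 hh))
    refine ⟨H', M, hns, e1, e2, e5, e6, fun j _ => ?_, fun j _ => ?_⟩
    · rw [e3]
      rcases eq_or_ne j i with rfl | hj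
      · exact iff_of_false (hflip (formG_det_ne N.hp _) (formG_det_ne hHp _) hsi) (fun hn => hn ⟨rfl, hp⟩)
      · rw [hs j hj]; exact iff_of_true Iff.rfl (fun hh => hj hh.1)
    · rw [e4]; exact iff_of_true Iff.rfl (fun hh => hh.2 hp)
  · obtain ⟨Hm, hHm, hs, hsi, hdet⟩ := exists_flip h2 N.hm (i := i) hodd (hor.resolve_left hp)
    obtain ⟨H', M, hns, -, -, e1, e2, e3, e4, e5, e6⟩ := N.exists_update N.hp hHm (by
      exact fun hh => hdet ((CfsgLib.Geometry.isSquare_mul_sq_iff N.hp.det_ne).1 hh))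
    refine ⟨H', M, hns, e1, e2, e5, e6, fun j _ => ?_, fun j _ => ?_⟩
    · rw [e3]; exact iff_of_true Iff.rfl (fun hh => hp hh.2)
    · rw [e4]
      rcases eq_or_ne j i with rfl | hj
      · exact iff_of_false (hflip (formG_det_ne N.hm _) (formG_det_ne hHm _) hsi) (fun hn => hn ⟨rfl, hp⟩)
      · rw [hs j hj]; exact iff_of_true Iff.rfl (fun hh => hj hh.1)

theorem odd_of_slot (h2 : (2 : F) ≠ 0) {j : ℕ} (hj : 1 ≤ j) (h : (1 : F) * (-1) ^ (j - 1) = 1) : Odd j := by
  have hne : (-1 : F) ≠ 1 := fun e => h2 (by linear_combination -e)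
  obtain ⟨m, rfl⟩ : ∃ m, j = m + 1 := ⟨j - 1, by omega⟩
  rw [one_mul, Nat.add_sub_cancel, neg_one_pow_eq_one_iff_even hne] at h
  exact Even.add_one h

/-- Toggled codes determine the original. -/
theorem Normal.iso_of_toggle {A₁ A₂ J J₁ J₂ : Matrix κ κ F} (h2 : (2 : F) ≠ 0)
    (N₁ : Normal (1 : F) A₁ J) (N₂ : Normal (1 : F) A₂ J) (h₁ : N₁.HasSlot) (h₂ : N₂.HasSlot)
    (M₁ : Normal (1 : F) A₁ J₁) (M₂ : Normal (1 : F) A₂ J₂) (t₁ : IsToggle N₁ M₁ (N₁.low h₁))
    (t₂ : IsToggle N₂ M₂ (N₂.low h₂)) (h : M₁.code = M₂.code) : Iso A₁ J A₂ J := by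
  classical
  obtain ⟨hP, hM, hr, hT⟩ := M₁.inv_of_code M₂ h2 (Or.inl rfl) h
  obtain ⟨p₁, m₁, r₁, T₁, sp₁, sm₁⟩ := t₁
  obtain ⟨p₂, m₂, r₂, T₂, sp₂, sm₂⟩ := t₂
  have hcp : ∀ j, Fintype.card (Diag N₁.dp j) = Fintype.card (Diag N₂.dp j) := fun j => by
    rw [← p₁, ← p₂, (hP j).1]
  have hcm : ∀ j, Fintype.card (Diag N₁.dm j) = Fintype.card (Diag N₂.dm j) := fun j => by
    rw [← m₁, ← m₂, (hM j).1]
  have hne : ∀ j, (Nonempty (Diag N₁.dp j) ↔ Nonempty (Diag N₂.dp j)) ∧
      (Nonempty (Diag N₁.dm j) ↔ Nonempty (Diag N₂.dm j)) := fun j => by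
    simp only [← Fintype.card_pos_iff, hcp, hcm, and_self]
  have hlow : N₁.low h₁ = N₂.low h₂ := by
    refine le_antisymm (Nat.find_min' h₁ ?_) (Nat.find_min' h₂ ?_)
    · obtain ⟨ho, hor⟩ := Nat.find_spec h₂
      exact ⟨ho, hor.imp (hne _).1.2 (hne _).2.2⟩
    · obtain ⟨ho, hor⟩ := Nat.find_spec h₁
      exact ⟨ho, hor.imp (hne _).1.1 (hne _).2.1⟩
  refine Normal.iso_of_eq h2 (Or.inl rfl) N₁ N₂ hcp hcm (fun j hj => ?_) (fun j hj => ?_) ?_
    (similar_of_restTuple N₁.rest_props.1 N₂.rest_props.1 ?_ ?_)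
  · rcases Nat.eq_zero_or_pos j with rfl | hj0
    · haveI : IsEmpty (Diag N₁.dp 0) := ⟨fun k => by have := N₁.hp.pos k.1; have := k.2; omega⟩
      haveI : IsEmpty (Diag N₂.dp 0) := ⟨fun k => by have := N₂.hp.pos k.1; have := k.2; omega⟩
      rw [det_isEmpty, det_isEmpty]
    have ho := odd_of_slot h2 hj0 hj
    have e := (hP j).2 hj
    have a := sp₁ j ho
    have b := sp₂ j ho
    rw [← hlow, ← (hne (N₁.low h₁)).1, ← e] at b
    tauto
  · rcases Nat.eq_zero_or_pos j with rfl | hj0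
    · haveI : IsEmpty (Diag N₁.dm 0) := ⟨fun k => by have := N₁.hm.pos k.1; have := k.2; omega⟩
      haveI : IsEmpty (Diag N₂.dm 0) := ⟨fun k => by have := N₂.hm.pos k.1; have := k.2; omega⟩
      rw [det_isEmpty, det_isEmpty]
    have ho := odd_of_slot h2 hj0 hj
    have e := (hM j).2 hj
    have a := sm₁ j ho
    have b := sm₂ j ho
    rw [← hlow, ← (hne (N₁.low h₁)).1, ← e] at b
    tauto
  · exact (r₁.symm.trans hr).trans r₂
  · exact (r₁.symm.trans hr).trans r₂
  · exact (T₁.symm.trans hT).trans T₂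

theorem Normal.bits_false (N : Normal (1 : F) A H) (h2 : (2 : F) ≠ 0) (h : ¬ N.HasSlot) :
    ∀ i l, N.code.2 i l = false := by
  classical
  have key : ∀ {t : ℕ} {d : Fin t → ℕ} (K : Matrix (Idx d) (Idx d) F), SForm idF (1 : F) d K →
      (∀ i, Odd i → ¬ Nonempty (Diag d i)) → ∀ i, (piece (1 : F) K i).2 = (false, false) := by
    intro t d K hK hno i
    by_cases hs : slotB (1 : F) i = true
    · have hodd : Odd (i + 1) := odd_of_slot h2 (Nat.succ_pos i) (by rw [Nat.succ_sub_one]; exact slotB_eq_true.1 hs)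
      haveI := not_nonempty_iff.1 (hno _ hodd)
      have h0 : Fintype.card (Diag d (i + 1)) = 0 := Fintype.card_eq_zero
      have hc : cls (1 : F) K i = false := by simp [cls, det_isEmpty]
      simp [piece, enc, h0, hc, hs]
    · simp [piece, enc, Bool.eq_false_iff.2 hs]
  intro i l
  have hp := key N.Hp N.hp (fun j hj hn => h ⟨j, hj, Or.inl hn⟩) i
  have hm := key N.Hm N.hm (fun j hj hn => h ⟨j, hj, Or.inr hn⟩) i
  show N.bits i l = false
  fin_cases l <;> simp [Normal.bits, hp, hm]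

/-- At most half of the codes, up to those without bits. -/
theorem two_mul_card_classes_le {J : Matrix κ κ F} {G : Type u} [Group G] (φ : G →* Matrix κ κ F)
    (hodd : Odd (Fintype.card F)) (hJ : Jᵀ = J) (hJd : J.det ≠ 0) (hφ : Function.Injective φ)
    (hmem : ∀ g, (φ g)ᵀ * J * φ g = J) (hsur : ∀ A : Matrix κ κ F, Aᵀ * J * A = J → ∃ g, φ g = A) :
    2 * Nat.card (ConjClasses G) ≤ codeSum (Fintype.card F) (Fintype.card κ) (slotB (1 : F)) +
      codeSum (Fintype.card F) (Fintype.card κ) (fun _ => false) := by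
  classical
  have h2 := two_ne_zero_of_odd hodd
  have hJ1 : Jᵀ = (1 : F) • J := by rw [one_smul, hJ]
  let N : (c : ConjClasses G) → Normal (1 : F) (φ c.out) J := fun c =>
    (exists_normal (one_mul 1) hJ1 hJd (hmem c.out)).some
  have hconj : ∀ c d : ConjClasses G, Iso (φ c.out) J (φ d.out) J → c = d := by
    intro c d hI
    obtain ⟨Q, hQ, hQJ⟩ := hI.exists_unit
    obtain ⟨g, hg⟩ := hsur _ hQJ
    rw [← Quotient.out_eq c, ← Quotient.out_eq d]
    refine ConjClasses.mk_eq_mk_iff_isConj.2 (isConj_iff.2 ⟨g, hφ ?_⟩)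
    have h1 : φ g * φ g⁻¹ = 1 := by rw [← map_mul, mul_inv_cancel, map_one]
    rw [map_mul, map_mul, hg, hQ, mul_assoc, ← hg, h1, mul_one]
  obtain ⟨hfin, hcard⟩ := card_codes_le (F := F) (N := Fintype.card κ) (δ := (1 : F))
  obtain ⟨hfin0, hcard0⟩ := card_codes_le_of (F := F) (N := Fintype.card κ) (δ := (1 : F)) (fun _ => false)
  haveI : Finite (ConjClasses G) := Finite.of_injective
    (fun c => (⟨(N c).code, (N c).code_isCode h2 (Or.inl rfl)⟩ : {z // IsCode (Fintype.card κ) (1 : F) z}))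
    fun c d h => hconj c d ((N c).iso_of_code (N d) h2 (Or.inl rfl) (congrArg Subtype.val h))
  let S := {c : ConjClasses G // (N c).HasSlot}
  let T := {c : ConjClasses G // ¬ (N c).HasSlot}
  choose Jt Mt hns htog using fun c : S => (N c.1).exists_toggle h2 c.2
  have hsplit : Nat.card (ConjClasses G) = Nat.card S + Nat.card T := by
    rw [← Nat.card_sum]
    exact Nat.card_congr (Equiv.sumCompl _).symm
  have hA : Nat.card S + Nat.card (ConjClasses G) ≤ codeSum (Fintype.card F) (Fintype.card κ) (slotB (1 : F)) := by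
    rw [← Nat.card_sum]
    refine le_trans (Nat.card_le_card_of_injective (Sum.elim
      (fun c : S => (⟨(Mt c).code, (Mt c).code_isCode h2 (Or.inl rfl)⟩ : {z // IsCode (Fintype.card κ) (1 : F) z}))
      (fun c => ⟨(N c).code, (N c).code_isCode h2 (Or.inl rfl)⟩)) ?_) hcard
    have hcross : ∀ (c : S) (d : ConjClasses G), (Mt c).code ≠ (N d).code := by
      intro c d h
      obtain ⟨Q, R, h1, h1', -, h4⟩ := (Mt c).iso_of_code (N d) h2 (Or.inl rfl) h
      refine hns c ⟨Q.det * J.det, ?_⟩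
      rw [← h4, det_mul, det_mul, det_transpose]
      ring
    rintro (c | c) (d | d) h
    · exact congrArg Sum.inl (Subtype.ext (hconj _ _ (Normal.iso_of_toggle h2 (N c.1) (N d.1) c.2 d.2 (Mt c) (Mt d)
        (htog c) (htog d) (congrArg Subtype.val h))))
    · exact absurd (congrArg Subtype.val h) (hcross c d)
    · exact absurd (congrArg Subtype.val h).symm (hcross d c)
    · exact congrArg Sum.inr (hconj _ _ ((N c).iso_of_code (N d) h2 (Or.inl rfl) (congrArg Subtype.val h)))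
  have hB : Nat.card T ≤ codeSum (Fintype.card F) (Fintype.card κ) (fun _ => false) := by
    refine le_trans (Nat.card_le_card_of_injective
      (fun c : T => (⟨(N c.1).code, (N c.1).code_isCode h2 (Or.inl rfl), fun i l hb => by
        rw [(N c.1).bits_false h2 c.2 i l] at hb
        exact hb⟩ :
        {z // IsCode (Fintype.card κ) (1 : F) z ∧ ∀ i l, z.2 i l = true → (fun _ : ℕ => false) i = true}))
      fun c d h => Subtype.ext (hconj _ _ ((N c.1).iso_of_code (N d.1) h2 (Or.inl rfl) (congrArg Subtype.val h))))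
      hcard0
  omega

end CfsgLib.FgsC.FormClasses
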