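import Cfsg.Agent.Lib.KnownB.UnitJordan.Lift

/-!
Forms with `H* = δ H` preserved by a unipotent matrix in Jordan form: two of them are congruent in the commutant
once the forms on the block multiplicity spaces are.
-/

set_option autoImplicit false
set_option linter.unusedSectionVars false

namespace CfsgLib.FgsC.FormClasses

open Matrix CfsgLib.KnownB.JordanCent CfsgLib.Classical.Unitary CfsgLib.KnownB.UnitJordan

universe u

variable {F : Type u} [Field F] {σ : F →+* F} {δ : F} {t : ℕ} {d : Fin t → ℕ}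

/-- A nondegenerate form with `H* = δ H` invariant under the Jordan matrix. -/
structure SForm (σ : F →+* F) (δ : F) (d : Fin t → ℕ) (H : Matrix (Idx d) (Idx d) F) : Prop where
  pos : ∀ k, 1 ≤ d k
  delta_ne : δ ≠ 0
  herm : cT σ H = δ • H
  det_ne : H.det ≠ 0
  inv : cT σ (1 + shift d F) * H * (1 + shift d F) = H

namespace SForm

variable {H : Matrix (Idx d) (Idx d) F}

theorem skew_eq (hH : SForm σ δ d H) :
    cT σ (shift d F) * H * (1 + shift d F) = -(H * shift d F) := by
  have h := hH.inv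
  rw [cT_add, cT_one, add_mul, add_mul, Matrix.one_mul, Matrix.mul_add, Matrix.mul_one] at h
  calc cT σ (shift d F) * H * (1 + shift d F)
      = (H + H * shift d F + cT σ (shift d F) * H * (1 + shift d F)) - (H + H * shift d F) := by abel
    _ = H - (H + H * shift d F) := by rw [h]
    _ = -(H * shift d F) := by abel

theorem rec_eq (hH : SForm σ δ d H) {k l : Fin t} {x y : ℕ} (hx : x < d k) (hy : y < d l) :
    ent H k (x + 1) l y + ent H k (x + 1) l (y + 1) = -ent H k x l (y + 1) := by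
  have h := congrFun (congrFun hH.skew_eq ⟨k, ⟨x, hx⟩⟩) ⟨l, ⟨y, hy⟩⟩
  rw [Matrix.mul_add, Matrix.mul_one, Matrix.add_apply, Matrix.neg_apply, mul_shift_ent,
    mul_shift_ent] at h
  simp only [cT_shift_mul_apply] at h
  rw [← h]
  congr 1
  by_cases h1 : y + 1 < d l
  · rw [ent_eq (cT σ (shift d F) * H) hx h1, cT_shift_mul_apply]
  · rw [ent, dif_neg (fun h' => h1 h'.2), ent, dif_neg (fun h' => h1 h'.2)]

theorem vanish (hH : SForm σ δ d H) (k l : Fin t) :
    ∀ x y, d l ≤ x + y → ent H k x l y = 0 := by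
  intro x
  induction x with
  | zero => exact fun y hy => ent_of_le H (by omega)
  | succ x ih =>
    suffices ∀ j y, d l ≤ y + j → d l ≤ x + 1 + y → ent H k (x + 1) l y = 0 from
      fun y hy => this (d l) y (by omega) hy
    intro j
    induction j with
    | zero => exact fun y hy _ => ent_of_le H (by omega)
    | succ j ihj =>
      intro y hy hxy
      by_cases h : x + 1 < d k ∧ y < d l
      · have h1 := hH.rec_eq (show x < d k by omega) h.2
        rw [ihj (y + 1) (by omega) (by omega), ih (y + 1) (by omega)] at h1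
        simpa using h1
      · exact dif_neg h

theorem ent_swap (hH : SForm σ δ d H) (k l : Fin t) (x y : ℕ) :
    σ (ent H l y k x) = δ * ent H k x l y := by
  by_cases h : x < d k ∧ y < d l
  · rw [ent_eq H h.1 h.2, ent_eq H h.2 h.1, ← cT_apply (σ := σ) H, hH.herm, Matrix.smul_apply, smul_eq_mul]
  · rw [ent, dif_neg (fun h' => h ⟨h'.2, h'.1⟩), ent, dif_neg h, map_zero, mul_zero]

theorem vanish' (hH : SForm σ δ d H) {k l : Fin t} {x y : ℕ} (h : d k ≤ x + y) :
    ent H k x l y = 0 := by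
  refine (mul_eq_zero.1 ?_).resolve_left hH.delta_ne
  rw [← hH.ent_swap, hH.vanish l k y x (by omega), map_zero]

theorem antidiag (hH : SForm σ δ d H) {k l : Fin t} {i : ℕ} (hk : d k = i) (hl : d l = i) :
    ∀ x < i, ent H k x l (i - 1 - x) = (-1) ^ x * ent H k 0 l (i - 1) := by
  intro x hx
  induction x with
  | zero => simp
  | succ x ih =>
    have h1 := hH.rec_eq (k := k) (l := l) (x := x) (y := i - 1 - (x + 1)) (by omega) (by omega)
    rw [show i - 1 - (x + 1) + 1 = i - 1 - x by omega, hH.vanish k l (x + 1) (i - 1 - x) (by omega),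
      add_zero, ih (by omega)] at h1
    rw [h1, pow_succ]
    ring

end SForm

theorem formG_cT {H : Matrix (Idx d) (Idx d) F} (hH : SForm σ δ d H) (i : ℕ) :
    cT σ (formG H i) = (δ * (-1 : F) ^ (i - 1)) • formG H i := by
  ext ⟨k, hk⟩ ⟨l, hl⟩
  rw [cT_apply, Matrix.smul_apply, smul_eq_mul]
  show σ (ent H l 0 k (i - 1)) = _ * ent H k 0 l (i - 1)
  rw [hH.ent_swap, mul_assoc]
  have := hH.pos k
  have h := hH.antidiag hk hl (i - 1) (by omega)
  rw [Nat.sub_self] at h
  rw [h]

theorem formG_det_ne {H : Matrix (Idx d) (Idx d) F} (hH : SForm σ δ d H) (i : ℕ) :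
    (formG H i).det ≠ 0 := by
  classical
  -- pairings of generators with socle vectors
  let Bm : Matrix (Fin t) (Fin t) F := Matrix.of fun k l => ent H k 0 l (d l - 1)
  have hB : Bm.det ≠ 0 := by
    intro h0
    obtain ⟨c, hc, hBc⟩ := Matrix.exists_mulVec_eq_zero_iff.2 h0
    let w : Idx d → F := fun p => if (p.2 : ℕ) = d p.1 - 1 then c p.1 else 0
    have hw : H *ᵥ w = 0 := by
      funext ⟨k, x⟩
      show ∑ p, H ⟨k, x⟩ p * w p = 0
      rw [Fintype.sum_sigma]
      rcases Nat.eq_zero_or_pos (x : ℕ) with hx | hx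
      · refine Eq.trans ?_ (congrFun hBc k)
        refine Finset.sum_congr rfl fun l _ => ?_
        have := hH.pos l
        rw [Finset.sum_eq_single (⟨d l - 1, by omega⟩ : Fin (d l))]
        · simp only [w, if_pos, Bm, Matrix.of_apply]
          rw [ent_eq H (hH.pos k) (show d l - 1 < d l by omega)]
          congr 3
          exact Fin.ext hx
        · intro y _ hy
          simp only [w]
          rw [if_neg (fun e => hy (Fin.ext e)), mul_zero]
        · simp
      · refine Finset.sum_eq_zero fun l _ => Finset.sum_eq_zero fun y _ => ?_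
        simp only [w]
        split_ifs with hy
        · have := hH.pos l
          rw [← ent_eq H x.isLt y.isLt, hH.vanish k l _ _ (by omega), zero_mul]
        · exact mul_zero _
    refine hc (funext fun l => ?_)
    have := congrFun (Matrix.eq_zero_of_mulVec_eq_zero hH.det_ne hw)
      ⟨l, ⟨d l - 1, by have := hH.pos l; omega⟩⟩
    simpa [w] using this
  have htri : Bm.transpose.BlockTriangular d := by
    intro k l hkl
    show ent H l 0 k (d k - 1) = 0
    exact hH.vanish' (by omega)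
  rcases isEmpty_or_nonempty (Diag d i) with he | ⟨⟨k0, hk0⟩⟩
  · rw [Matrix.det_isEmpty]; exact one_ne_zero
  rw [← Matrix.det_transpose, htri.det, Finset.prod_ne_zero_iff] at hB
  have h := hB i (Finset.mem_image.2 ⟨k0, Finset.mem_univ _, hk0⟩)
  rw [← Matrix.det_transpose]
  refine (congrArg Matrix.det ?_).trans_ne h
  ext ⟨k, hk⟩ ⟨l, hl⟩
  show ent H l 0 k (i - 1) = ent H l 0 k (d k - 1)
  rw [hk]

/-- The adjoint identity read on the blocks. -/
theorem blk_adjoint {H : Matrix (Idx d) (Idx d) F} (hH : SForm σ δ d H)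
    {M N : Matrix (Idx d) (Idx d) F} (hM : M * shift d F = shift d F * M)
    (hN : N * shift d F = shift d F * N) (hMN : cT σ M * H = H * N) (i : ℕ) :
    cT σ (blkM hH.pos M i) * formG H i = formG H i * blkM hH.pos N i := by
  classical
  ext ⟨l, hl⟩ ⟨l', hl'⟩
  have hi : 1 ≤ i := hl ▸ hH.pos l
  have h := congrFun (congrFun hMN ⟨l, ⟨0, hH.pos l⟩⟩) ⟨l', ⟨i - 1, by omega⟩⟩
  rw [Matrix.mul_apply, Matrix.mul_apply, Fintype.sum_sigma, Fintype.sum_sigma] at h
  rw [Matrix.mul_apply, Matrix.mul_apply]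
  have eL : ∀ k : Fin t, ∑ x : Fin (d k),
      cT σ M ⟨l, ⟨0, hH.pos l⟩⟩ ⟨k, x⟩ * H ⟨k, x⟩ ⟨l', ⟨i - 1, by omega⟩⟩ =
        if d k = i then σ (M ⟨k, ⟨0, hH.pos k⟩⟩ ⟨l, ⟨0, hH.pos l⟩⟩) * ent H k 0 l' (i - 1) else 0 := by
    intro k
    rw [Finset.sum_eq_single (⟨0, hH.pos k⟩ : Fin (d k))]
    · rw [cT_apply, ← ent_eq H (hH.pos k) (show i - 1 < d l' by omega)]
      split_ifs with hk
      · rfl
      · rcases lt_or_gt_of_ne hk with hk' | hk'
        · rw [hH.vanish' (x := 0) (y := i - 1) (by omega), mul_zero]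
        · rw [kill d hH.pos hM ⟨k, ⟨0, hH.pos k⟩⟩ l (by show 0 + d l < d k; omega), map_zero, zero_mul]
    · intro x _ hx
      have hx' : (x : ℕ) ≠ 0 := fun e => hx (Fin.ext e)
      rw [← ent_eq H x.isLt (show i - 1 < d l' by omega), hH.vanish k l' _ _ (by omega), mul_zero]
    · simp
  have eR : ∀ k : Fin t, ∑ x : Fin (d k),
      H ⟨l, ⟨0, hH.pos l⟩⟩ ⟨k, x⟩ * N ⟨k, x⟩ ⟨l', ⟨i - 1, by omega⟩⟩ =
        if d k = i then ent H l 0 k (i - 1) * N ⟨k, ⟨0, hH.pos k⟩⟩ ⟨l', ⟨0, hH.pos l'⟩⟩ else 0 := by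
    intro k
    have := hH.pos k
    rw [Finset.sum_eq_single (⟨d k - 1, by omega⟩ : Fin (d k))]
    · rw [entry_zero d hH.pos hN (i - 1) l' (by omega), ← ent_eq H (hH.pos l) (show d k - 1 < d k by omega)]
      split_ifs with h1 h2 h2
      · exact congr_arg₂ (· * ·) (congrArg (ent H l 0 k) (show d k - 1 = i - 1 by omega))
          (congrArg (fun a => N ⟨k, a⟩ ⟨l', ⟨0, hH.pos l'⟩⟩)
            (Fin.ext (by show d k - 1 - (i - 1) = 0; omega)))
      · rcases lt_or_gt_of_ne h2 with hk' | hk'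
        · change i - 1 ≤ d k - 1 at h1
          omega
        · rw [hH.vanish' (x := 0) (y := d k - 1) (by omega), zero_mul]
      · change ¬ i - 1 ≤ d k - 1 at h1
        omega
      · exact mul_zero _
    · intro x _ hx
      have hx' : (x : ℕ) ≠ d k - 1 := fun e => hx (Fin.ext e)
      have := x.isLt
      rw [entry_zero d hH.pos hN (i - 1) l' (by omega)]
      split_ifs with h1
      · change i - 1 ≤ (x : ℕ) at h1
        rw [kill d hH.pos hN _ l' (by show (x : ℕ) - (i - 1) + d l' < d k; omega), mul_zero]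
      · exact mul_zero _
    · simp
  simp only [eL, eR, ← Finset.sum_filter] at h
  exact (Finset.sum_subtype _ (by simp)
      (fun k => σ (M ⟨k, ⟨0, hH.pos k⟩⟩ ⟨l, ⟨0, hH.pos l⟩⟩) * ent H k 0 l' (i - 1))).symm.trans
    (h.trans (Finset.sum_subtype _ (by simp)
      (fun k => ent H l 0 k (i - 1) * N ⟨k, ⟨0, hH.pos k⟩⟩ ⟨l', ⟨0, hH.pos l'⟩⟩)))

namespace SForm

variable {H : Matrix (Idx d) (Idx d) F} (hH : SForm σ δ d H)
include hH

theorem unit_det : IsUnit H.det := isUnit_iff_ne_zero.2 hH.det_ne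

theorem mul_adj (M : Matrix (Idx d) (Idx d) F) : H * adj σ H M = cT σ M * H := by
  rw [adj, ← Matrix.mul_assoc, ← Matrix.mul_assoc, Matrix.mul_nonsing_inv H hH.unit_det,
    Matrix.one_mul]

theorem adj_eq_iff {M N : Matrix (Idx d) (Idx d) F} : adj σ H M = N ↔ cT σ M * H = H * N := by
  rw [← hH.mul_adj]
  refine ⟨fun h => by rw [h], fun h => ?_⟩
  have := congrArg (H⁻¹ * ·) h
  simpa only [← Matrix.mul_assoc, Matrix.nonsing_inv_mul H hH.unit_det, Matrix.one_mul] using this

theorem adj_one : adj σ H 1 = 1 := by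
  rw [hH.adj_eq_iff, cT_one, Matrix.one_mul, Matrix.mul_one]

theorem adj_add (M N : Matrix (Idx d) (Idx d) F) :
    adj σ H (M + N) = adj σ H M + adj σ H N := by
  rw [adj, adj, adj, cT_add, Matrix.mul_add, Matrix.add_mul]

theorem adj_sub (M N : Matrix (Idx d) (Idx d) F) :
    adj σ H (M - N) = adj σ H M - adj σ H N := by
  rw [adj, adj, adj, cT_sub, Matrix.mul_sub, Matrix.sub_mul]

theorem adj_smul (c : F) (M : Matrix (Idx d) (Idx d) F) :
    adj σ H (c • M) = σ c • adj σ H M := by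
  rw [adj, adj, cT_smul, Matrix.mul_smul, Matrix.smul_mul]

theorem adj_mul (M N : Matrix (Idx d) (Idx d) F) : adj σ H (M * N) = adj σ H N * adj σ H M := by
  rw [hH.adj_eq_iff, cT_mul, Matrix.mul_assoc, ← hH.mul_adj, ← Matrix.mul_assoc, ← hH.mul_adj,
    Matrix.mul_assoc]

theorem adj_adj (h2 : ∀ x, σ (σ x) = x) (M : Matrix (Idx d) (Idx d) F) :
    adj σ H (adj σ H M) = M := by
  have h := congrArg (cT σ) (hH.mul_adj M)
  rw [cT_mul, cT_mul, cT_cT h2, hH.herm, Matrix.mul_smul, Matrix.smul_mul] at h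
  rw [hH.adj_eq_iff]
  exact smul_right_injective (Matrix (Idx d) (Idx d) F) hH.delta_ne h

theorem adj_inv {M : Matrix (Idx d) (Idx d) F} (hu : IsUnit M.det) :
    adj σ H M⁻¹ = (adj σ H M)⁻¹ := by
  refine (Matrix.inv_eq_right_inv ?_).symm
  rw [← hH.adj_mul, Matrix.nonsing_inv_mul M hu, hH.adj_one]

theorem com_adj {M : Matrix (Idx d) (Idx d) F} (hM : Com M) : Com (adj σ H M) := by
  obtain ⟨J, hJ⟩ : ∃ J : Matrix (Idx d) (Idx d) F, J = 1 + shift d F := ⟨_, rfl⟩
  have h1 : adj σ H J * J = 1 := by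
    rw [adj, Matrix.mul_assoc, Matrix.mul_assoc, ← Matrix.mul_assoc (cT σ J), hJ, hH.inv,
      Matrix.nonsing_inv_mul H hH.unit_det]
  have h2 : J * adj σ H J = 1 := mul_eq_one_comm.1 h1
  have h3 : M * J = J * M := by rw [hJ]; exact ((Commute.one_right M).add_right hM).eq
  have h4 := congrArg (adj σ H) h3
  rw [hH.adj_mul, hH.adj_mul] at h4
  have h5 : adj σ H M * J = J * adj σ H M := by
    calc adj σ H M * J = J * adj σ H J * adj σ H M * J := by rw [h2, Matrix.one_mul]
      _ = J * (adj σ H M * adj σ H J) * J := by rw [Matrix.mul_assoc J, h4]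
      _ = J * adj σ H M * (adj σ H J * J) := by simp only [Matrix.mul_assoc]
      _ = J * adj σ H M := by rw [h1, Matrix.mul_one]
  show adj σ H M * shift d F = shift d F * adj σ H M
  rw [hJ, Matrix.mul_add, Matrix.add_mul, Matrix.mul_one, Matrix.one_mul] at h5
  exact add_left_cancel h5

theorem blk_adj {M : Matrix (Idx d) (Idx d) F} (hM : Com M) (i : ℕ) :
    cT σ (blkM hH.pos M i) * formG H i = formG H i * blkM hH.pos (adj σ H M) i :=
  blk_adjoint hH hM.eq (hH.com_adj hM).eq (hH.mul_adj M).symm i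

theorem ker_adj {a : Matrix (Idx d) (Idx d) F} (ha : InKer hH.pos a) :
    InKer hH.pos (adj σ H a) := by
  refine ⟨hH.com_adj ha.1, fun i => ?_⟩
  classical
  have h := hH.blk_adj ha.1 i
  rw [ha.2 i, cT_zero, Matrix.zero_mul] at h
  have := congrArg ((formG H i)⁻¹ * ·) h
  simpa only [← Matrix.mul_assoc, Matrix.nonsing_inv_mul _
    (isUnit_iff_ne_zero.2 (formG_det_ne hH i)), Matrix.one_mul, Matrix.mul_zero] using this.symm

end SForm

/-- Lifting: `1 + a` is `g* g` with `g ≡ 1`. -/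
theorem SForm.exists_root {H : Matrix (Idx d) (Idx d) F} (hH : SForm σ δ d H) {ε : F}
    (hε : ε + σ ε = 1) (h2 : ∀ x, σ (σ x) = x) (a : Matrix (Idx d) (Idx d) F)
    (ha : InKer hH.pos a) (hs : adj σ H a = a) :
    ∃ g, Com g ∧ (∀ i, blkM hH.pos g i = 1) ∧ adj σ H g * g = 1 + a := by
  classical
  obtain ⟨m, hm⟩ := ha.isNilpotent hH.pos
  induction m using Nat.strong_induction_on generalizing a with
  | _ m ih =>
  rcases lt_or_ge m 2 with hm2 | hm2
  · have h0 : a = 0 := by
      have h := pow_eq_zero_of_le (show m ≤ 1 by omega) hm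
      rwa [pow_one] at h
    subst h0
    exact ⟨1, Com.one, fun i => blkM_one _ _, by rw [hH.adj_one, Matrix.one_mul, add_zero]⟩
  obtain ⟨g1, hg1⟩ : ∃ g1, g1 = 1 + ε • a := ⟨_, rfl⟩
  have hadj : adj σ H g1 = 1 + σ ε • a := by
    rw [hg1, hH.adj_add, hH.adj_one, hH.adj_smul, hs]
  obtain ⟨c, hc⟩ : ∃ c, c = σ ε * ε := ⟨_, rfl⟩
  obtain ⟨P, hP⟩ : ∃ P, P = adj σ H g1 * g1 := ⟨_, rfl⟩
  have hPe : P = 1 + a + c • (a * a) := by
    rw [hP, hadj, hg1, Matrix.add_mul, Matrix.mul_add, Matrix.mul_add, Matrix.one_mul,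
      Matrix.mul_one, Matrix.one_mul, Matrix.smul_mul, Matrix.mul_smul, smul_smul, hc]
    calc 1 + ε • a + (σ ε • a + (σ ε * ε) • (a * a))
        = 1 + (ε + σ ε) • a + (σ ε * ε) • (a * a) := by rw [add_smul]; abel
      _ = _ := by rw [hε, one_smul]
  have hk1 : InKer hH.pos (a + c • (a * a)) :=
    ha.add _ ((ha.mul_right _ ha.1).smul _ c)
  have hPu : IsUnit P.det := by rw [hPe, add_assoc]; exact hk1.isUnit_det _
  have hPc : Com P := by
    rw [hPe, add_assoc]; exact Commute.add_left Com.one hk1.1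
  have hPa : Commute P a := by
    rw [hPe]
    exact ((Commute.one_left a).add_left (Commute.refl a)).add_left
      (((Commute.refl a).mul_left (Commute.refl a)).smul_left c)
  have hQa : Commute P⁻¹ a := by
    show P⁻¹ * a = a * P⁻¹
    calc P⁻¹ * a = P⁻¹ * (a * P) * P⁻¹ := by
          rw [Matrix.mul_assoc, Matrix.mul_assoc, Matrix.mul_nonsing_inv P hPu, Matrix.mul_one]
      _ = P⁻¹ * (P * a) * P⁻¹ := by rw [hPa.eq]
      _ = a * P⁻¹ := by rw [← Matrix.mul_assoc P⁻¹, Matrix.nonsing_inv_mul P hPu, Matrix.one_mul]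
  have hPs : adj σ H P = P := by
    rw [hP, hH.adj_mul, hH.adj_adj h2]
  have hQs : adj σ H P⁻¹ = P⁻¹ := by rw [hH.adj_inv hPu, hPs]
  obtain ⟨a', ha'⟩ : ∃ a', a' = (-c) • (a * a * P⁻¹) := ⟨_, rfl⟩
  have hk' : InKer hH.pos a' := by
    rw [ha']; exact ((ha.mul_right _ ha.1).mul_right _ (hPc.inv hPu)).smul _ _
  have hs' : adj σ H a' = a' := by
    rw [ha', hH.adj_smul, hH.adj_mul, hH.adj_mul, hQs, hs, map_neg, hc, map_mul, h2,
      mul_comm ε, ← Matrix.mul_assoc, ((hQa.mul_right hQa)).eq.symm, Matrix.mul_assoc]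
  have hpow : a' ^ ((m + 1) / 2) = 0 := by
    rw [ha', smul_pow, Commute.mul_pow (hQa.mul_right hQa).symm, ← pow_two, ← pow_mul,
      pow_eq_zero_of_le (show m ≤ 2 * ((m + 1) / 2) by omega) hm, Matrix.zero_mul, smul_zero]
  obtain ⟨g', hg'c, hg'b, hg'e⟩ := ih ((m + 1) / 2) (by omega) a' hk' hs' hpow
  have hk2 : InKer hH.pos (ε • a) := ha.smul _ ε
  have hg1c : Com g1 := by rw [hg1]; exact Commute.add_left Com.one hk2.1
  have hcom : Commute a' g1 := by
    rw [ha', hg1]
    refine ((Commute.one_right _).add_right (Commute.smul_right ?_ ε))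
    exact (((Commute.refl a).mul_left (Commute.refl a)).mul_left hQa).smul_left (-c)
  refine ⟨g' * g1, Commute.mul_left hg'c hg1c, fun i => ?_, ?_⟩
  · rw [blkM_mul _ hg'c.eq hg1c.eq, hg'b, hg1, blkM_add, blkM_one, hk2.2, add_zero, one_mul]
  · calc adj σ H (g' * g1) * (g' * g1)
        = adj σ H g1 * (adj σ H g' * g') * g1 := by rw [hH.adj_mul]; simp only [Matrix.mul_assoc]
      _ = P + P * a' := by
          rw [hg'e, Matrix.mul_add, Matrix.mul_one, Matrix.add_mul, Matrix.mul_assoc _ a', hcom.eq,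
            ← Matrix.mul_assoc, hP]
      _ = P + -c • (a * a) := by
          rw [ha', Matrix.mul_smul, (hQa.mul_right hQa).symm.eq, ← Matrix.mul_assoc,
            Matrix.mul_nonsing_inv P hPu, Matrix.one_mul]
      _ = 1 + a := by rw [hPe, neg_smul]; abel

end CfsgLib.FgsC.FormClasses
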