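import Cfsg.Agent.Lib.FgsC.FormClasses.Flip

/-!
The number of classes of an orthogonal group in even dimension is at most `9.5 q^n`.
-/

set_option autoImplicit false

namespace CfsgLib.FgsC.FormClasses

open Finset

universe u

variable {F : Type u} [Field F] [Fintype F]

theorem slotB_one (h2 : (2 : F) ≠ 0) (i : ℕ) : slotB (1 : F) i = true ↔ Even i := by
  rw [slotB_eq_true, IsSlot, one_mul]
  exact neg_one_pow_eq_one_iff_even fun e => h2 (by linear_combination -e)

theorem bitProd_one (h2 : (2 : F) ≠ 0) (t : ℝ) (n : ℕ) :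
    ∏ i : Fin (2 * n), (bitW (slotB (1 : F)) t i true + 1) ^ 4 =
      (∏ j ∈ range n, (1 + t * (t ^ 2) ^ j)) ^ 4 := by
  rw [Fin.prod_univ_eq_prod_range (fun i => (bitW (slotB (1 : F)) t i true + 1) ^ 4), ← Finset.prod_pow]
  induction n with
  | zero => simp
  | succ n ih =>
    rw [show 2 * (n + 1) = 2 * n + 1 + 1 by ring, Finset.prod_range_succ _ (2 * n + 1),
      Finset.prod_range_succ _ (2 * n), ih, Finset.prod_range_succ _ n]
    have h1 : slotB (1 : F) (2 * n) = true := (slotB_one h2 _).2 (even_two_mul n)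
    have h3 : slotB (1 : F) (2 * n + 1) = false := Bool.eq_false_iff.2 fun h =>
      Nat.not_even_iff_odd.2 (odd_two_mul_add_one n) ((slotB_one h2 _).1 h)
    simp only [bitW, h1, h3, if_true, Bool.false_eq_true, if_false]
    rw [← pow_mul]
    ring

theorem oddBits_le {t : ℝ} (ht0 : 0 ≤ t) (ht : t ^ 2 ≤ 1 / 3) (n : ℕ) :
    ∏ j ∈ range n, (1 + t * (t ^ 2) ^ j) ≤ 20664 / 10000 := by
  have ht' : t ≤ 57736 / 100000 := by nlinarith
  obtain ⟨c, hc⟩ : ∃ c : ℝ, c = 57736 / 100000 := ⟨_, rfl⟩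
  have hc0 : 0 ≤ c := by rw [hc]; norm_num
  let y : ℕ → ℝ := fun j => c * (1 / 3) ^ j
  have hy : ∀ j, 0 ≤ y j := fun j => by positivity
  have hstep : ∀ k, (∏ j ∈ range (6 + k), (1 + y j)) * (1 - 3 / 2 * c * ((1 / 3 : ℝ) ^ 6 - (1 / 3) ^ (6 + k))) ≤
      ∏ j ∈ range 6, (1 + y j) := by
    intro k
    induction k with
    | zero => simp
    | succ k ih =>
      rw [show 6 + (k + 1) = 6 + k + 1 by omega, Finset.prod_range_succ _ (6 + k), pow_succ _ (6 + k), mul_assoc]
      refine le_trans (mul_le_mul_of_nonneg_left ?_ (Finset.prod_nonneg fun j _ => by positivity)) ih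
      have hA : 0 ≤ 3 / 2 * c * ((1 / 3 : ℝ) ^ 6 - (1 / 3) ^ (6 + k)) :=
        mul_nonneg (by positivity)
          (sub_nonneg.2 (pow_le_pow_of_le_one (by norm_num) (by norm_num) (by omega)))
      have hp : (0 : ℝ) ≤ c * (1 / 3 : ℝ) ^ (6 + k) := by positivity
      show (1 + c * (1 / 3 : ℝ) ^ (6 + k)) * _ ≤ _
      nlinarith [mul_nonneg hA hp, mul_nonneg hp hp]
  have h1 : ∏ j ∈ range n, (1 + t * (t ^ 2) ^ j) ≤ ∏ j ∈ range n, (1 + y j) :=
    Finset.prod_le_prod (fun j _ => by positivity) fun j _ => by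
      have h := mul_le_mul (ht'.trans_eq hc.symm) (pow_le_pow_left₀ (sq_nonneg t) ht j) (by positivity) hc0
      simp only [y]
      linarith
  refine h1.trans ?_
  have h2 : ∏ j ∈ range n, (1 + y j) ≤ ∏ j ∈ range (6 + n), (1 + y j) :=
    Finset.prod_le_prod_of_subset_of_one_le (Finset.range_subset_range.2 (by omega)) (fun j _ => by positivity)
      fun j _ _ => le_add_of_nonneg_right (hy j)
  refine h2.trans ?_
  have h3 := hstep n
  have h6 : (∏ j ∈ range 6, (1 + y j)) ≤ 206390 / 100000 := by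
    norm_num [Finset.prod_range_succ, y, hc]
  have hp : (0 : ℝ) ≤ c * (1 / 3 : ℝ) ^ (6 + n) := by positivity
  have hpos : (0 : ℝ) ≤ ∏ j ∈ range (6 + n), (1 + y j) := Finset.prod_nonneg fun j _ => by positivity
  rw [hc] at h3 hp
  nlinarith [mul_nonneg hpos hp]

theorem abs_alt_le {t : ℝ} (ht0 : 0 ≤ t) (ht : t ^ 2 ≤ 1 / 3) (n : ℕ) :
    (∏ j ∈ range n, (1 + -t * ((-t) ^ 2) ^ j)) ^ 4 ≤ 1 := by
  rw [neg_sq, ← Finset.prod_pow]
  refine Finset.prod_le_one (fun j _ => by positivity) fun j _ => ?_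
  have h1 : t * (t ^ 2) ^ j ≤ 1 := by
    have : t ≤ 1 := by nlinarith
    exact mul_le_one₀ this (by positivity) (pow_le_one₀ (by positivity) (by linarith))
  have h0 : 0 ≤ t * (t ^ 2) ^ j := by positivity
  have h2 : -t * (t ^ 2) ^ j = -(t * (t ^ 2) ^ j) := by ring
  rw [h2]
  exact pow_le_one₀ (by linarith) (by linarith)

/-- The numerical bound. -/
theorem codeSum_orth_le (hodd : Odd (Fintype.card F)) (n : ℕ) :
    codeSum (Fintype.card F) (2 * n) (slotB (1 : F)) + codeSum (Fintype.card F) (2 * n) (fun _ => false) ≤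
      19 * Fintype.card F ^ n := by
  have h2 := two_ne_zero_of_odd hodd
  have hq3 : 3 ≤ Fintype.card F := by
    have := Fintype.one_lt_card (α := F)
    obtain ⟨k, hk⟩ := hodd
    omega
  set q := Fintype.card F
  have hq : (3 : ℝ) ≤ q := by exact_mod_cast hq3
  set t : ℝ := (Real.sqrt q)⁻¹ with ht
  have ht0 : 0 ≤ t := by positivity
  have ht2 : t ^ 2 = 1 / (q : ℝ) := by rw [ht, inv_pow, Real.sq_sqrt (by positivity), one_div]
  have htq : t ^ 2 * q = 1 := by rw [ht2]; field_simp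
  have ht3 : t ^ 2 ≤ 1 / 3 := by rw [ht2]; exact one_div_le_one_div_of_le (by norm_num) hq
  have hn : ∏ i : Fin (2 * n), ∑ M : Fin (2 * n + 1), degW (-t) i M = ∏ i : Fin (2 * n), ∑ M : Fin (2 * n + 1), degW t i M := by
    simp only [degW, neg_sq]
  have hP : prodW (2 * n) (slotB (1 : F)) t ≤ 17854 / 10000 * (20664 / 10000) ^ 4 := by
    rw [prodW, Finset.prod_mul_distrib, bitProd_one h2]
    exact mul_le_mul (degProd_le ht3 _) (pow_le_pow_left₀ (Finset.prod_nonneg fun j _ => by positivity)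
      (oddBits_le ht0 ht3 n) 4) (by positivity) (by norm_num)
  have hM : prodW (2 * n) (slotB (1 : F)) (-t) ≤ 17854 / 10000 * 1 := by
    rw [prodW, Finset.prod_mul_distrib, bitProd_one h2, hn]
    exact mul_le_mul (degProd_le ht3 _) (abs_alt_le ht0 ht3 n)
      (Even.pow_nonneg (by decide : Even 4) _) (by norm_num)
  have hZ : prodW (2 * n) (fun _ => false) t ≤ 17854 / 10000 := by
    have e : ∀ i : Fin (2 * n), (bitW (fun _ => false) t i true + 1) ^ 4 = 1 := fun i => by simp [bitW]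
    rw [prodW, Finset.prod_mul_distrib, Finset.prod_congr rfl fun i _ => e i, Finset.prod_const_one, mul_one]
    exact degProd_le ht3 _
  have h := codeSum_le_average ht0 htq n (slotB (1 : F))
  have h' := codeSum_le_prodW ht0 htq (2 * n) (fun _ => false)
  rw [pow_mul, ht2, one_div, inv_pow] at h h'
  have hqn : (0 : ℝ) < (q : ℝ) ^ n := by positivity
  rw [← Nat.cast_le (α := ℝ)]
  push_cast
  rw [← mul_inv_le_iff₀ hqn, add_mul]
  norm_num at hP hM
  linarith

theorem card_orth_le {κ : Type} [Fintype κ] [DecidableEq κ] {J : Matrix κ κ F} {G : Type u} [Group G]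
    (φ : G →* Matrix κ κ F) (hodd : Odd (Fintype.card F)) {n : ℕ} (hκ : Fintype.card κ = 2 * n)
    (hJ : J.transpose = J) (hJd : J.det ≠ 0) (hφ : Function.Injective φ)
    (hmem : ∀ g, (φ g).transpose * J * φ g = J)
    (hsur : ∀ A : Matrix κ κ F, A.transpose * J * A = J → ∃ g, φ g = A) :
    2 * Nat.card (ConjClasses G) ≤ 19 * Fintype.card F ^ n := by
  have h := two_mul_card_classes_le φ hodd hJ hJd hφ hmem hsur
  rw [hκ] at h
  exact h.trans (codeSum_orth_le hodd n)

end CfsgLib.FgsC.FormClasses
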