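import Cfsg.Agent.Lib.FgsC.FormClasses.Classes
import Cfsg.Agent.Lib.KnownB.ClassCount

/-!
An orthogonal group in dimension `2n ≥ 4` has at least `q^n / 2` classes.
-/

set_option autoImplicit false

namespace CfsgLib.FgsC.FormClasses

open Matrix Polynomial

universe u

variable {F : Type u} [Field F] {m : ℕ}

theorem det_swap_blocks (A B : Matrix (Fin m) (Fin m) F) :
    (fromBlocks A B B A).det = (A - B).det * (A + B).det := by
  have h : fromBlocks 1 0 1 1 * fromBlocks A B B A * fromBlocks 1 0 (-1) 1 = fromBlocks (A - B) B 0 (A + B) := by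
    simp only [fromBlocks_multiply, Matrix.one_mul, Matrix.zero_mul, Matrix.mul_one, Matrix.mul_zero, Matrix.mul_neg,
      add_zero, zero_add]
    congr 1 <;> abel
  have h' := congrArg Matrix.det h
  rw [det_mul, det_mul, det_fromBlocks_zero₁₂, det_fromBlocks_zero₁₂, det_fromBlocks_zero₂₁, det_one, one_mul, one_mul,
    mul_one] at h'
  exact h'

/-- A pair with prescribed trace polynomial. -/
theorem exists_pair [Finite F] (g : F[X]) (hg : g.Monic) (hd : g.natDegree = m) :
    ∃ A K : Matrix (Fin m ⊕ Fin m) (Fin m ⊕ Fin m) F, Kᵀ = K ∧ Aᵀ * K * A = K ∧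
      (∃ w : F, w ≠ 0 ∧ K.det = w * w * ((-1 : F) ^ m * (g.eval 2 * g.eval (-2)))) ∧
      ∀ (L : Type u) [Field L] [Algebra F L] (t : L), t ≠ 0 → aeval t A.charpoly = t ^ m * aeval (t + t⁻¹) g := by
  obtain ⟨W, G, hW, hWs, hWG, hG⟩ := CfsgLib.KnownB.ClassCount.exists_symm_pair g hg hd
  have hGW : Gᵀ * W = W * G := by rw [← hWG, transpose_mul, hWs]
  refine ⟨fromBlocks 0 (-1) 1 G, fromBlocks ((2 : F) • W) (W * G) (W * G) ((2 : F) • W), ?_, ?_, ⟨W.det, hW.ne_zero, ?_⟩,
    fun L _ _ t ht => ?_⟩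
  · rw [fromBlocks_transpose, transpose_smul, hWs, hWG]
  · rw [fromBlocks_transpose, fromBlocks_multiply, fromBlocks_multiply]
    simp only [transpose_zero, transpose_one, transpose_neg, Matrix.zero_mul, Matrix.one_mul, Matrix.mul_one,
      Matrix.mul_zero, Matrix.neg_mul, Matrix.mul_neg, zero_add, add_zero, Matrix.mul_smul, Matrix.smul_mul,
      Matrix.add_mul, ← Matrix.mul_assoc, hGW]
    congr 1 <;> module
  · have e1 : (2 : F) • W - W * G = W * (Matrix.scalar (Fin m) 2 - G) := by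
      rw [Matrix.mul_sub, Matrix.scalar_apply, ← Matrix.smul_one_eq_diagonal, Matrix.mul_smul, Matrix.mul_one]
    have e2 : (2 : F) • W + W * G = (-1 : F) • (W * (Matrix.scalar (Fin m) (-2) - G)) := by
      rw [Matrix.mul_sub, Matrix.scalar_apply, ← Matrix.smul_one_eq_diagonal, Matrix.mul_smul, Matrix.mul_one,
        neg_one_smul, neg_smul, neg_sub, sub_neg_eq_add, add_comm]
    rw [det_swap_blocks, e1, e2, det_smul, det_mul, det_mul, ← eval_charpoly, ← eval_charpoly, hG, Fintype.card_fin]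
    ring
  · rw [show aeval t (fromBlocks 0 (-1) 1 G : Matrix (Fin m ⊕ Fin m) (Fin m ⊕ Fin m) F).charpoly =
        ((fromBlocks 0 (-1) 1 G : Matrix (Fin m ⊕ Fin m) (Fin m ⊕ Fin m) F).map (algebraMap F L)).charpoly.eval t by
      rw [Matrix.charpoly_map, Polynomial.eval_map, Polynomial.aeval_def]]
    have hsc : Matrix.scalar (Fin m ⊕ Fin m) t - (fromBlocks 0 (-1) 1 G : Matrix (Fin m ⊕ Fin m) (Fin m ⊕ Fin m) F).map (algebraMap F L) =
        fromBlocks (t • (1 : Matrix (Fin m) (Fin m) L)) 1 (-1) (t • 1 - G.map (algebraMap F L)) := by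
      rw [Matrix.fromBlocks_map, Matrix.scalar_apply, ← Matrix.smul_one_eq_diagonal, ← Matrix.fromBlocks_one,
        Matrix.fromBlocks_smul, sub_eq_add_neg, Matrix.fromBlocks_neg, Matrix.fromBlocks_add]
      simp [sub_eq_add_neg, Matrix.map_neg]
    letI : Invertible (t • (1 : Matrix (Fin m) (Fin m) L)) :=
      ⟨t⁻¹ • 1, by rw [smul_mul_smul_comm, inv_mul_cancel₀ ht, one_mul, one_smul],
        by rw [smul_mul_smul_comm, mul_inv_cancel₀ ht, one_mul, one_smul]⟩
    rw [Matrix.eval_charpoly, hsc, Matrix.det_fromBlocks₁₁,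
      show ⅟(t • (1 : Matrix (Fin m) (Fin m) L)) = t⁻¹ • 1 from rfl, Matrix.det_smul, Matrix.det_one, mul_one,
      Fintype.card_fin]
    congr 1
    rw [mul_one, neg_mul, one_mul, sub_neg_eq_add, sub_add_eq_add_sub, ← add_smul,
      Matrix.smul_one_eq_diagonal, ← Matrix.scalar_apply, ← Matrix.eval_charpoly, Matrix.charpoly_map,
      Polynomial.eval_map, hG, Polynomial.aeval_def]

theorem eval_sign {A : Matrix (Fin m ⊕ Fin m) (Fin m ⊕ Fin m) F} {g : F[X]}
    (h : ∀ (L : Type u) [Field L] [Algebra F L] (t : L), t ≠ 0 → aeval t A.charpoly = t ^ m * aeval (t + t⁻¹) g)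
    {c : F} (hc : c * c = 1) : A.charpoly.eval c = c ^ m * g.eval (c + c) := by
  have hc0 : c ≠ 0 := left_ne_zero_of_mul_eq_one hc
  have := h F c hc0
  rwa [coe_aeval_eq_eval, coe_aeval_eq_eval, inv_eq_of_mul_eq_one_left hc] at this

section Count

variable [Fintype F]

/-- Monic polynomials of degree `m` as tuples. -/
theorem card_monic (m : ℕ) : Finite {p : F[X] // p.Monic ∧ p.natDegree = m} ∧
    Nat.card {p : F[X] // p.Monic ∧ p.natDegree = m} = Fintype.card F ^ m := by
  let e : {p : F[X] // p.Monic ∧ p.natDegree = m} ≃ (Fin m → F) :=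
    (monicEquivDegreeLT m).trans (degreeLTEquiv F m).toEquiv
  exact ⟨Finite.of_equiv _ e.symm,
    by rw [Nat.card_congr e, Nat.card_fun, Nat.card_fin, Nat.card_eq_fintype_card]⟩

/-- The polynomial with given quotient and values at `±2`. -/
noncomputable def withValues (h : F[X]) (u v : F) : F[X] :=
  (X ^ 2 - C 4) * h + (C ((u - v) / 4) * X + C ((u + v) / 2))

theorem withValues_spec (h2 : (2 : F) ≠ 0) {h : F[X]} (hm : h.Monic) {k : ℕ} (hd : h.natDegree = k) (u v : F) :
    (withValues h u v).Monic ∧ (withValues h u v).natDegree = k + 2 ∧ (withValues h u v).eval 2 = u ∧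
      (withValues h u v).eval (-2) = v := by
  have h4 : (4 : F) ≠ 0 := by rw [show (4 : F) = 2 * 2 by norm_num]; exact mul_ne_zero h2 h2
  have hp : (X ^ 2 - C (4 : F)).Monic := monic_X_pow_sub_C _ two_ne_zero
  have hdeg : ((X ^ 2 - C (4 : F)) * h).natDegree = k + 2 := by
    rw [hp.natDegree_mul hm, natDegree_X_pow_sub_C, hd, add_comm]
  have hlt : (C ((u - v) / 4) * X + C ((u + v) / 2)).natDegree < k + 2 := by
    have := natDegree_linear_le (a := (u - v) / 4) (b := (u + v) / 2)
    omega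
  have hmul := hp.mul hm
  have hlt' : (C ((u - v) / 4) * X + C ((u + v) / 2)).degree < ((X ^ 2 - C (4 : F)) * h).degree := by
    refine degree_le_natDegree.trans_lt ?_
    rw [degree_eq_natDegree hmul.ne_zero, hdeg]
    exact_mod_cast hlt
  refine ⟨hmul.add_of_left hlt', ?_, ?_, ?_⟩
  · rw [withValues, natDegree_add_eq_left_of_natDegree_lt (by rw [hdeg]; exact hlt), hdeg]
  · simp only [withValues, eval_add, eval_mul, eval_sub, eval_pow, eval_X, eval_C]
    field_simp
    ring
  · simp only [withValues, eval_add, eval_mul, eval_sub, eval_pow, eval_X, eval_C]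
    field_simp
    ring

theorem withValues_inj (h2 : (2 : F) ≠ 0) {h h' : F[X]} (hm : h.Monic) (hm' : h'.Monic) {u v u' v' : F}
    (e : withValues h u v = withValues h' u' v') : h = h' ∧ u = u' ∧ v = v' := by
  obtain ⟨-, -, a, b⟩ := withValues_spec h2 hm rfl u v
  obtain ⟨-, -, a', b'⟩ := withValues_spec h2 hm' rfl u' v'
  have hu : u = u' := by rw [← a, e, a']
  have hv : v = v' := by rw [← b, e, b']
  subst hu hv
  exact ⟨mul_left_cancel₀ (monic_X_pow_sub_C (4 : F) two_ne_zero).ne_zero (add_right_cancel e), rfl, rfl⟩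

/-- Polynomials without roots `±2` and with a given square class of the product of the values there. -/
abbrev ClassPolys (m : ℕ) (c : F) : Type u :=
  {g : F[X] // g.Monic ∧ g.natDegree = m ∧ g.eval 2 ≠ 0 ∧ g.eval (-2) ≠ 0 ∧
    IsSquare (c * (g.eval 2 * g.eval (-2)))}

/-- Polynomials without roots `±2`. -/
abbrev FreePolys (F : Type u) [Field F] (m : ℕ) : Type u :=
  {g : F[X] // g.Monic ∧ g.natDegree = m ∧ g.eval 2 ≠ 0 ∧ g.eval (-2) ≠ 0}

theorem finite_freePolys (m : ℕ) : Finite (FreePolys F m) := by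
  haveI := (card_monic (F := F) m).1
  exact Finite.of_injective (fun g => (⟨g.1, g.2.1, g.2.2.1⟩ : {p : F[X] // p.Monic ∧ p.natDegree = m}))
    fun a b h => Subtype.ext (congrArg Subtype.val h :)

theorem finite_classPolys (m : ℕ) (c : F) : Finite (ClassPolys m c) := by
  haveI := (card_monic (F := F) m).1
  exact Finite.of_injective (fun g => (⟨g.1, g.2.1, g.2.2.1⟩ : {p : F[X] // p.Monic ∧ p.natDegree = m}))
    fun a b h => Subtype.ext (congrArg Subtype.val h :)

theorem card_classPolys_ge (h2 : (2 : F) ≠ 0) (k : ℕ) {c : F} (hc : c ≠ 0) :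
    Fintype.card F ^ k * ((Fintype.card F - 1) * (Fintype.card F - 1)) ≤ 2 * Nat.card (ClassPolys (k + 2) c) := by
  classical
  haveI := finite_classPolys (k + 2) c
  let sq : Fˣ → Fˣ := fun s => s * s
  let v : Fˣ × Fˣ → F := fun x => c * (x.2 : F) * x.2 / x.1
  have hdom : Nat.card ({p : F[X] // p.Monic ∧ p.natDegree = k} × (Fˣ × Fˣ)) =
      Fintype.card F ^ k * ((Fintype.card F - 1) * (Fintype.card F - 1)) := by
    rw [Nat.card_prod, Nat.card_prod, (card_monic k).2, Nat.card_eq_fintype_card, Fintype.card_units]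
  have hmem : ∀ x : {p : F[X] // p.Monic ∧ p.natDegree = k} × (Fˣ × Fˣ),
      (withValues x.1.1 x.2.1 (v x.2)).Monic ∧ (withValues x.1.1 x.2.1 (v x.2)).natDegree = k + 2 ∧
        (withValues x.1.1 x.2.1 (v x.2)).eval 2 ≠ 0 ∧ (withValues x.1.1 x.2.1 (v x.2)).eval (-2) ≠ 0 ∧
        IsSquare (c * ((withValues x.1.1 x.2.1 (v x.2)).eval 2 * (withValues x.1.1 x.2.1 (v x.2)).eval (-2))) := by
    intro x
    obtain ⟨a, b, e1, e2⟩ := withValues_spec h2 x.1.2.1 x.1.2.2 (x.2.1 : F) (v x.2)
    rw [e1, e2]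
    refine ⟨a, b, x.2.1.ne_zero,
      div_ne_zero (mul_ne_zero (mul_ne_zero hc x.2.2.ne_zero) x.2.2.ne_zero) x.2.1.ne_zero, ⟨c * x.2.2, ?_⟩⟩
    simp only [v]
    field_simp
  refine le_trans (le_of_eq hdom.symm) ?_
  rw [two_mul, ← Nat.card_sum]
  haveI := (card_monic (F := F) k).1
  let f : {p : F[X] // p.Monic ∧ p.natDegree = k} × (Fˣ × Fˣ) → ClassPolys (k + 2) c ⊕ ClassPolys (k + 2) c := fun x =>
    if x.2.2 = Function.invFun sq (sq x.2.2) then Sum.inl ⟨_, hmem x⟩ else Sum.inr ⟨_, hmem x⟩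
  refine Nat.card_le_card_of_injective f ?_
  rintro ⟨⟨h, hh⟩, u, s⟩ ⟨⟨h', hh'⟩, u', s'⟩ e
  have key : withValues h u (v (u, s)) = withValues h' u' (v (u', s')) ∧
      (s = Function.invFun sq (sq s) ↔ s' = Function.invFun sq (sq s')) := by
    simp only [f] at e
    split_ifs at e with h1 h3 h3
    · exact ⟨congrArg Subtype.val (Sum.inl.inj e), iff_of_true h1 h3⟩
    · exact ⟨congrArg Subtype.val (Sum.inr.inj e), iff_of_false h1 h3⟩
  obtain ⟨rfl, hu, hv⟩ := withValues_inj h2 hh.1 hh'.1 key.1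
  obtain rfl : u = u' := Units.ext hu
  have hss : sq s = sq s' := by
    refine Units.ext ?_
    have hu0 := u.ne_zero
    simp only [v] at hv
    field_simp at hv
    simp only [sq, Units.val_mul]
    linear_combination hv
  obtain rfl : s = s' := by
    obtain ⟨r, hr⟩ : ∃ r, r = Function.invFun sq (sq s) := ⟨_, rfl⟩
    have hrs : sq r = sq s := hr ▸ Function.invFun_eq ⟨s, rfl⟩
    have e2 := key.2
    rw [← hss, ← hr] at e2
    have hpm : ∀ a : Fˣ, sq a = sq r → a = r ∨ (a : F) = -(r : F) := fun a ha => by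
      have := congrArg Units.val ha
      simp only [sq, Units.val_mul] at this
      rcases mul_self_eq_mul_self_iff.1 this with h4 | h4
      · exact Or.inl (Units.ext h4)
      · exact Or.inr h4
    by_cases hs : s = r
    · rw [hs, e2.1 hs]
    · exact Units.ext (((hpm s hrs.symm).resolve_left hs).trans
        ((hpm s' (hss ▸ hrs.symm)).resolve_left fun h' => hs (e2.2 h')).symm)
  rfl

theorem card_freePolys_ge (h2 : (2 : F) ≠ 0) (k : ℕ) :
    Fintype.card F ^ k * ((Fintype.card F - 1) * (Fintype.card F - 1)) ≤ Nat.card (FreePolys F (k + 2)) := by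
  haveI := finite_freePolys (F := F) (k + 2)
  haveI := (card_monic (F := F) k).1
  refine le_trans (le_of_eq ?_) (Nat.card_le_card_of_injective
    (fun x : {p : F[X] // p.Monic ∧ p.natDegree = k} × (Fˣ × Fˣ) =>
      (⟨withValues x.1.1 x.2.1 x.2.2, (withValues_spec h2 x.1.2.1 x.1.2.2 _ _).1,
        (withValues_spec h2 x.1.2.1 x.1.2.2 _ _).2.1,
        by rw [(withValues_spec h2 x.1.2.1 x.1.2.2 _ _).2.2.1]; exact x.2.1.ne_zero,
        by rw [(withValues_spec h2 x.1.2.1 x.1.2.2 _ _).2.2.2]; exact x.2.2.ne_zero⟩ : FreePolys F (k + 2))) ?_)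
  · classical
    rw [Nat.card_prod, Nat.card_prod, (card_monic k).2, Nat.card_eq_fintype_card, Fintype.card_units]
  · rintro ⟨⟨h, hh⟩, u, s⟩ ⟨⟨h', hh'⟩, u', s'⟩ e
    obtain ⟨rfl, hu, hv⟩ := withValues_inj h2 hh.1 hh'.1 (congrArg Subtype.val e)
    obtain rfl : u = u' := Units.ext hu
    obtain rfl : s = s' := Units.ext hv
    rfl

theorem card_freePolys_one (h2 : (2 : F) ≠ 0) : Fintype.card F - 2 ≤ Nat.card (FreePolys F 1) := by
  classical
  haveI := finite_freePolys (F := F) 1
  have hne : (2 : F) ≠ -2 := by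
    intro e
    exact mul_ne_zero h2 h2 (by linear_combination e)
  have hdom : Nat.card {a : F // a ∉ ({2, -2} : Finset F)} = Fintype.card F - 2 := by
    rw [Nat.card_eq_fintype_card, Fintype.card_subtype_compl, Fintype.card_coe, Finset.card_pair hne]
  refine hdom ▸ Nat.card_le_card_of_injective
    (fun a : {a : F // a ∉ ({2, -2} : Finset F)} => (⟨X - C a.1, monic_X_sub_C _, natDegree_X_sub_C _,
      fun h => a.2 (by rw [eval_sub, eval_X, eval_C, sub_eq_zero] at h; simp [← h]),
      fun h => a.2 (by rw [eval_sub, eval_X, eval_C, sub_eq_zero] at h; simp [← h])⟩ : FreePolys F 1)) fun a b e => ?_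
  exact Subtype.ext (C_injective (sub_right_injective (congrArg Subtype.val e)))

end Count

/-- The signs on the extra plane. -/
def planeSigns (F : Type u) [Field F] : Fin 3 → Fin 2 → F := ![![1, 1], ![-1, -1], ![1, -1]]

theorem planeSigns_mul (i : Fin 3) (j : Fin 2) : planeSigns F i j * planeSigns F i j = 1 := by
  fin_cases i <;> fin_cases j <;> simp [planeSigns]

theorem charpoly_planeSigns (i : Fin 3) :
    (Matrix.diagonal (planeSigns F i)).charpoly = (X - C (planeSigns F i 0)) * (X - C (planeSigns F i 1)) := by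
  rw [charpoly_diagonal, Fin.prod_univ_two]

variable [Fintype F]

theorem card_orth_ge {κ : Type} [Fintype κ] [DecidableEq κ] {J : Matrix κ κ F} {G : Type u} [Group G] [Finite G]
    (φ : G →* Matrix κ κ F) (hodd : Odd (Fintype.card F)) {n : ℕ} (hn : 2 ≤ n) (hκ : Fintype.card κ = 2 * n)
    (hJ : Jᵀ = J) (hJd : J.det ≠ 0)
    (hsur : ∀ A : Matrix κ κ F, Aᵀ * J * A = J → ∃ g, φ g = A) :
    Fintype.card F ^ n ≤ 2 * Nat.card (ConjClasses G) := by
  classical
  have h2 := two_ne_zero_of_odd hodd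
  have hreal : ∀ {I : Type} [Fintype I] [DecidableEq I] (A K : Matrix I I F), Fintype.card I = Fintype.card κ →
      Kᵀ = K → K.det ≠ 0 → Aᵀ * K * A = K → IsSquare (K.det * J.det) → ∃ g : G, (φ g).charpoly = A.charpoly := by
    intro I _ _ A K hI hKs hKd hA hsq
    let e : κ ≃ I := Fintype.equivOfCardEq hI.symm
    obtain ⟨P, hP⟩ := CfsgLib.Geometry.GraphPSL.congr_of_disc h2 (J := K.submatrix e e) (J' := J)
      (by rw [transpose_submatrix, hKs]) hJ (by rwa [det_submatrix_equiv_self]) hJd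
      (by rwa [det_submatrix_equiv_self])
    obtain ⟨A', hA'⟩ : ∃ A', A' = A.submatrix e e := ⟨_, rfl⟩
    have hA'K : A'ᵀ * K.submatrix e e * A' = K.submatrix e e := by
      rw [hA', transpose_submatrix, submatrix_mul_equiv, submatrix_mul_equiv, hA]
    obtain ⟨B, hB⟩ : ∃ B, B = ((P⁻¹ : GL κ F) : Matrix κ κ F) * A' * (P : Matrix κ κ F) := ⟨_, rfl⟩
    have hPB : (P : Matrix κ κ F) * B = A' * (P : Matrix κ κ F) := by
      rw [hB, ← Matrix.mul_assoc, ← Matrix.mul_assoc, Units.mul_inv, Matrix.one_mul]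
    obtain ⟨g, hg⟩ := hsur B (by
      calc Bᵀ * J * B = ((P : Matrix κ κ F) * B)ᵀ * K.submatrix e e * ((P : Matrix κ κ F) * B) := by
            rw [← hP, transpose_mul]; simp only [Matrix.mul_assoc]
        _ = (P : Matrix κ κ F)ᵀ * (A'ᵀ * K.submatrix e e * A') * (P : Matrix κ κ F) := by
            rw [hPB, transpose_mul]; simp only [Matrix.mul_assoc]
        _ = J := by rw [hA'K, hP])
    refine ⟨g, ?_⟩
    rw [hg, hB, Matrix.coe_units_inv, Matrix.charpoly_units_conj', hA']
    show (Matrix.reindex e.symm e.symm A).charpoly = A.charpoly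
    rw [Matrix.charpoly_reindex]
  obtain ⟨m, rfl⟩ : ∃ m, n = m + 2 := ⟨n - 2, by omega⟩
  -- without eigenvalues `±1`
  let c : F := (-1) ^ (m + 2) * J.det
  have hc : c ≠ 0 := mul_ne_zero (pow_ne_zero _ (neg_ne_zero.2 one_ne_zero)) hJd
  have hmain : ∀ g : ClassPolys (m + 2) c, ∃ x : G, (φ x).charpoly.eval 1 ≠ 0 ∧ (φ x).charpoly.eval (-1) ≠ 0 ∧
      ∀ (L : Type u) [Field L] [Algebra F L] (t : L), t ≠ 0 →
        aeval t (φ x).charpoly = t ^ (m + 2) * aeval (t + t⁻¹) g.1 := by
    intro g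
    obtain ⟨hgm, hgd, hg1, hg2, hgs⟩ := g.2
    obtain ⟨A, K, hKs, hA, ⟨w, hw, hK⟩, hev⟩ := exists_pair g.1 hgm hgd
    have hKd : K.det ≠ 0 := by
      rw [hK]
      exact mul_ne_zero (mul_ne_zero hw hw)
        (mul_ne_zero (pow_ne_zero _ (neg_ne_zero.2 one_ne_zero)) (mul_ne_zero hg1 hg2))
    obtain ⟨x, hx⟩ := hreal A K (by rw [Fintype.card_sum, Fintype.card_fin, hκ]; omega) hKs hKd hA (by
      rw [hK, show w * w * ((-1 : F) ^ (m + 2) * (g.1.eval 2 * g.1.eval (-2))) * J.det =
        w * w * (c * (g.1.eval 2 * g.1.eval (-2))) by ring]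
      exact IsSquare.mul ⟨w, rfl⟩ hgs)
    refine ⟨x, ?_, ?_, fun L _ _ t ht => by rw [hx]; exact hev L t ht⟩
    · rw [hx, eval_sign hev (one_mul 1), one_pow, one_mul, one_add_one_eq_two]; exact hg1
    · rw [hx, eval_sign hev (by ring), show (-1 : F) + -1 = -2 by ring]
      exact mul_ne_zero (pow_ne_zero _ (neg_ne_zero.2 one_ne_zero)) hg2
  -- with a plane on which the element is diagonal
  have hext : ∀ y : FreePolys F (m + 1) × Fin 3, ∃ x : G, ∃ f : F[X], f.eval 1 ≠ 0 ∧ f.eval (-1) ≠ 0 ∧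
      (φ x).charpoly = f * (Matrix.diagonal (planeSigns F y.2)).charpoly ∧
      ∀ (L : Type u) [Field L] [Algebra F L] (t : L), t ≠ 0 → aeval t f = t ^ (m + 1) * aeval (t + t⁻¹) y.1.1 := by
    rintro ⟨⟨g, hgm, hgd, hg1, hg2⟩, i⟩
    obtain ⟨A, K, hKs, hA, ⟨w, hw, hK⟩, hev⟩ := exists_pair g hgm hgd
    have hKd : K.det ≠ 0 := by
      rw [hK]
      exact mul_ne_zero (mul_ne_zero hw hw)
        (mul_ne_zero (pow_ne_zero _ (neg_ne_zero.2 one_ne_zero)) (mul_ne_zero hg1 hg2))
    let D : Fin 2 → F := ![1, K.det * J.det]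
    have hDd : (Matrix.diagonal D).det = K.det * J.det := by simp [D, det_diagonal]
    obtain ⟨x, hx⟩ := hreal (fromBlocks A 0 0 (Matrix.diagonal (planeSigns F i))) (fromBlocks K 0 0 (Matrix.diagonal D))
      (by rw [Fintype.card_sum, Fintype.card_sum, Fintype.card_fin, Fintype.card_fin, hκ]; omega)
      (by rw [fromBlocks_transpose, hKs, diagonal_transpose, transpose_zero, transpose_zero])
      (by rw [det_fromBlocks_zero₂₁, hDd]; exact mul_ne_zero hKd (mul_ne_zero hKd hJd))
      (by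
        rw [fromBlocks_transpose, fromBlocks_multiply, fromBlocks_multiply]
        simp only [transpose_zero, diagonal_transpose, Matrix.zero_mul, Matrix.mul_zero, add_zero, zero_add, hA,
          diagonal_mul_diagonal]
        congr 2
        funext j
        rw [mul_comm (planeSigns F i j) (D j), mul_assoc, planeSigns_mul, mul_one])
      (by rw [det_fromBlocks_zero₂₁, hDd]; exact ⟨K.det * J.det, by ring⟩)
    refine ⟨x, A.charpoly, ?_, ?_, by rw [hx, charpoly_fromBlocks_zero₂₁], hev⟩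
    · rw [eval_sign hev (one_mul 1), one_pow, one_mul, one_add_one_eq_two]; exact hg1
    · rw [eval_sign hev (by ring), show (-1 : F) + -1 = -2 by ring]
      exact mul_ne_zero (pow_ne_zero _ (neg_ne_zero.2 one_ne_zero)) hg2
  choose xm hm1 hm2 hm3 using hmain
  choose xe fe he1 he2 he3 he4 using hext
  haveI := finite_classPolys (m + 2) c
  haveI := finite_freePolys (F := F) (m + 1)
  have hcp : ∀ x y : G, ConjClasses.mk x = ConjClasses.mk y → (φ x).charpoly = (φ y).charpoly := by
    intro x y h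
    obtain ⟨z, hz⟩ := isConj_iff.1 (ConjClasses.mk_eq_mk_iff_isConj.1 h)
    rw [← hz, map_mul, map_mul]
    let Z : GL κ F := φ.toHomUnits z
    rw [show φ z = (Z : Matrix κ κ F) from rfl, show φ z⁻¹ = ((Z⁻¹ : GL κ F) : Matrix κ κ F) by
      rw [← map_inv]; rfl, Matrix.coe_units_inv, Matrix.charpoly_units_conj]
  have hcancel : ∀ {k : ℕ} {g g' : F[X]}, (∀ t : AlgebraicClosure F, t ≠ 0 →
      t ^ k * aeval (t + t⁻¹) g = t ^ k * aeval (t + t⁻¹) g') → g = g' := fun h =>
    CfsgLib.KnownB.ClassCount.eq_of_aeval_eq _ _ fun t ht => mul_left_cancel₀ (pow_ne_zero _ ht) (h t ht)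
  have hcount : Nat.card (ClassPolys (m + 2) c) + Nat.card (FreePolys F (m + 1)) * 3 ≤ Nat.card (ConjClasses G) := by
    have h3 : Nat.card (FreePolys F (m + 1) × Fin 3) = Nat.card (FreePolys F (m + 1)) * 3 := by
      rw [Nat.card_prod, Nat.card_fin]
    rw [← h3, ← Nat.card_sum]
    refine Nat.card_le_card_of_injective (Sum.elim (fun g => ConjClasses.mk (xm g))
      (fun y => ConjClasses.mk (xe y))) ?_
    have hne : (1 : F) ≠ -1 := fun h => h2 (by linear_combination h)
    have hmark : ∀ g y, ConjClasses.mk (xm g) ≠ ConjClasses.mk (xe y) := by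
      intro g y h
      have e := hcp _ _ h
      have hz : planeSigns F y.2 0 = 1 ∨ planeSigns F y.2 0 = -1 := by
        generalize y.2 = i
        fin_cases i <;> simp [planeSigns]
      rcases hz with hz | hz
      · exact hm1 g (by rw [e, he3, charpoly_planeSigns, hz]; simp)
      · exact hm2 g (by rw [e, he3, charpoly_planeSigns, hz]; simp)
    rintro (g | y) (g' | y') h
    · refine congrArg Sum.inl (Subtype.ext (hcancel (k := m + 2) fun t ht => ?_))
      rw [← hm3 g (AlgebraicClosure F) t ht, ← hm3 g' (AlgebraicClosure F) t ht, hcp _ _ h]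
    · exact absurd h (hmark g y')
    · exact absurd h.symm (hmark g' y)
    · have e := hcp _ _ h
      rw [he3, he3] at e
      have hi : y.2 = y'.2 := by
        have e1 := congrArg (fun p : F[X] => decide (p.eval 1 = 0)) e
        have e2 := congrArg (fun p : F[X] => decide (p.eval (-1) = 0)) e
        simp only [eval_mul, mul_eq_zero, he1, he2, false_or, charpoly_planeSigns, eval_sub, eval_X, eval_C,
          sub_eq_zero] at e1 e2
        revert e1 e2
        generalize y.2 = i
        generalize y'.2 = i'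
        fin_cases i <;> fin_cases i' <;> simp [planeSigns, hne, hne.symm]
      rw [hi] at e
      have e' := mul_right_cancel₀ (charpoly_monic _).ne_zero e
      refine congrArg Sum.inr (Prod.ext (Subtype.ext (hcancel (k := m + 1) fun t ht => ?_)) hi)
      rw [← he4 y (AlgebraicClosure F) t ht, ← he4 y' (AlgebraicClosure F) t ht, e']
  have hq : 3 ≤ Fintype.card F := by
    have := Fintype.one_lt_card (α := F)
    obtain ⟨k, hk⟩ := hodd
    omega
  have hA := card_classPolys_ge h2 m hc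
  obtain ⟨r, hr⟩ : ∃ r, Fintype.card F = r + 3 := ⟨_, (Nat.sub_add_cancel hq).symm⟩
  rcases m with _ | m
  · have hB := card_freePolys_one (F := F) h2
    rw [hr] at hA hB ⊢
    simp only [show r + 3 - 2 = r + 1 by omega] at hB
    simp only [show r + 3 - 1 = r + 2 by omega, pow_zero, one_mul] at hA
    simp only [Nat.zero_add] at hA hcount ⊢
    nlinarith
  · have hB := card_freePolys_ge (F := F) h2 m
    rw [hr] at hA hB ⊢
    simp only [show r + 3 - 1 = r + 2 by omega] at hA hB
    rw [show m + 1 + 2 = m + 3 by omega, pow_add]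
    rw [pow_succ] at hA
    have hP : 0 ≤ (r + 3) ^ m := Nat.zero_le _
    nlinarith

end CfsgLib.FgsC.FormClasses
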