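import Cfsg.Agent.Lib.FgsC.FormClasses.OrthUpper
import Cfsg.Agent.Lib.FgsC.FormClasses.OrthLower
import Cfsg.Agent.Lib.Geometry.GraphPSL.Classes

/-!
`q^n / 2 ≤ k(O±_2n(q)) ≤ 9.5 q^n` in odd characteristic.
-/

set_option autoImplicit false

namespace CfsgLib.FgsC.FormClasses

open Matrix CfsgLib.Geometry

universe u

variable {F : Type u} [Field F] [Fintype F]

theorem card_isometry_bounds {κ : Type} [Fintype κ] [DecidableEq κ] (hodd : Odd (Fintype.card F)) {n : ℕ}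
    (hn : 2 ≤ n) (hκ : Fintype.card κ = 2 * n) (M : Matrix κ κ F) {Q : (κ → F) → F} (hQ : ⇑(matQuad M) = Q)
    (hd : (M + Mᵀ).det ≠ 0) :
    Fintype.card F ^ n ≤ 2 * Nat.card (ConjClasses ↥(Cfsg.isometryGroup F Q)) ∧
      2 * Nat.card (ConjClasses ↥(Cfsg.isometryGroup F Q)) ≤ 19 * Fintype.card F ^ n := by
  subst hQ
  have h2 := two_ne_zero_of_odd hodd
  have hJ : (M + Mᵀ)ᵀ = M + Mᵀ := by rw [transpose_add, transpose_transpose, add_comm]
  have hmem : ∀ g : GL κ F, g ∈ Cfsg.isometryGroup F ⇑(matQuad M) ↔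
      (g : Matrix κ κ F)ᵀ * (M + Mᵀ) * (g : Matrix κ κ F) = M + Mᵀ := by
    intro g
    rw [mem_isometryGroup_iff]
    constructor
    · intro h
      refine Matrix.toBilin'.injective ?_
      refine LinearMap.ext fun u => LinearMap.ext fun v => ?_
      rw [Matrix.toBilin'_apply', Matrix.toBilin'_apply', ← Matrix.mulVec_mulVec, ← Matrix.mulVec_mulVec,
        Matrix.dotProduct_mulVec, vecMul_transpose, ← polar_matQuad, ← polar_matQuad, QuadraticMap.polar,
        QuadraticMap.polar, ← mulVec_add, h, h, h]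
    · intro h v
      refine mul_left_cancel₀ h2 ?_
      rw [← polar_self' (matQuad M), ← polar_self' (matQuad M), polar_matQuad, polar_matQuad]
      conv_rhs => rw [← h]
      rw [← Matrix.mulVec_mulVec, ← Matrix.mulVec_mulVec, Matrix.dotProduct_mulVec v ((g : Matrix κ κ F)ᵀ),
        vecMul_transpose]
  let φ : ↥(Cfsg.isometryGroup F ⇑(matQuad M)) →* Matrix κ κ F :=
    (Units.coeHom (Matrix κ κ F)).comp (Cfsg.isometryGroup F ⇑(matQuad M)).subtype
  have hsur : ∀ A : Matrix κ κ F, Aᵀ * (M + Mᵀ) * A = M + Mᵀ → ∃ g, φ g = A := fun A hA =>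
    ⟨⟨GeneralLinearGroup.mkOfDetNeZero A (det_ne_of_preserves hd hA), (hmem _).2 hA⟩, rfl⟩
  exact ⟨card_orth_ge φ hodd hn hκ hJ hd hsur,
    card_orth_le φ hodd hκ hJ hd (fun a b h => Subtype.ext (Units.ext h)) (fun g => (hmem g.1).1 g.2) hsur⟩

theorem card_orth_pm_bounds (hodd : Odd (Fintype.card F)) (n : ℕ) (hn : 2 ≤ n) (a b : F)
    (hab : ∀ z₁ z₂ : F, z₁ ^ 2 + a * z₁ * z₂ + b * z₂ ^ 2 = 0 → z₁ = 0 ∧ z₂ = 0) :
    (Fintype.card F ^ n ≤ 2 * Nat.card (ConjClasses ↥(Cfsg.isometryGroup F (Cfsg.quadFormPlus n F))) ∧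
      2 * Nat.card (ConjClasses ↥(Cfsg.isometryGroup F (Cfsg.quadFormPlus n F))) ≤ 19 * Fintype.card F ^ n) ∧
    (Fintype.card F ^ n ≤ 2 * Nat.card (ConjClasses ↥(Cfsg.isometryGroup F (Cfsg.quadFormMinus (n - 1) F a b))) ∧
      2 * Nat.card (ConjClasses ↥(Cfsg.isometryGroup F (Cfsg.quadFormMinus (n - 1) F a b))) ≤
        19 * Fintype.card F ^ n) :=
  ⟨card_isometry_bounds hodd hn (by rw [Fintype.card_sum, Fintype.card_fin]; omega) _ (coe_matQuad_plus n)
      (GraphPSL.det_plusG_ne_zero n),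
    card_isometry_bounds hodd hn (by simp only [Fintype.card_sum, Fintype.card_fin]; omega) _
      (coe_matQuad_minus (n - 1) a b) (GraphPSL.det_minusG_ne_zero n hab)⟩

end CfsgLib.FgsC.FormClasses
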