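import Cfsg.Agent.Lib.FgsC.FormClasses.Congr
import Cfsg.Agent.Lib.Geometry.GraphPSL.Congr
import Cfsg.Agent.Lib.KnownB.NormTrick

/-!
Equivalence of pairs (matrix, invariant form), and the comparison of the unipotent and of the remaining pieces.
-/

set_option autoImplicit false
set_option linter.unusedSectionVars false

namespace CfsgLib.FgsC.FormClasses

open Matrix CfsgLib.KnownB.JordanCent CfsgLib.Classical.Unitary CfsgLib.KnownB.UnitJordan

universe u

variable {F : Type u} [Field F]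

theorem cT_id {ι κ : Type} (M : Matrix ι κ F) : cT (RingHom.id F) M = Mᵀ := rfl

section Iso

variable {α β γ : Type} [Fintype α] [DecidableEq α] [Fintype β] [DecidableEq β] [Fintype γ] [DecidableEq γ]

/-- An invertible map carrying `A` to `A'` and `H'` back to `H`. -/
def Iso (A H : Matrix α α F) (A' H' : Matrix β β F) : Prop :=
  ∃ (Q : Matrix β α F) (R : Matrix α β F), Q * R = 1 ∧ R * Q = 1 ∧ A' * Q = Q * A ∧ Qᵀ * H' * Q = H

theorem Iso.refl (A H : Matrix α α F) : Iso A H A H :=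
  ⟨1, 1, mul_one _, mul_one _, by rw [mul_one, one_mul], by rw [transpose_one, one_mul, mul_one]⟩

theorem Iso.symm {A H : Matrix α α F} {A' H' : Matrix β β F} (h : Iso A H A' H') : Iso A' H' A H := by
  obtain ⟨Q, R, h1, h2, h3, h4⟩ := h
  refine ⟨R, Q, h2, h1, ?_, ?_⟩
  · calc A * R = R * Q * A * R := by rw [h2, Matrix.one_mul]
      _ = R * (A' * Q) * R := by rw [h3, Matrix.mul_assoc R Q]
      _ = R * A' * (Q * R) := by simp only [Matrix.mul_assoc]
      _ = R * A' := by rw [h1, Matrix.mul_one]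
  · calc Rᵀ * H * R = (Q * R)ᵀ * H' * (Q * R) := by rw [← h4, transpose_mul]; simp only [Matrix.mul_assoc]
      _ = H' := by rw [h1, transpose_one, Matrix.one_mul, Matrix.mul_one]

theorem Iso.trans {A H : Matrix α α F} {A' H' : Matrix β β F} {A'' H'' : Matrix γ γ F} (h : Iso A H A' H')
    (h' : Iso A' H' A'' H'') : Iso A H A'' H'' := by
  obtain ⟨Q, R, h1, h2, h3, h4⟩ := h
  obtain ⟨Q', R', h1', h2', h3', h4'⟩ := h'
  refine ⟨Q' * Q, R * R', ?_, ?_, ?_, ?_⟩
  · rw [Matrix.mul_assoc, ← Matrix.mul_assoc Q R, h1, Matrix.one_mul, h1']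
  · rw [Matrix.mul_assoc, ← Matrix.mul_assoc R' Q', h2', Matrix.one_mul, h2]
  · rw [← Matrix.mul_assoc, h3', Matrix.mul_assoc, h3, ← Matrix.mul_assoc]
  · rw [← h4, ← h4', transpose_mul]; simp only [Matrix.mul_assoc]

theorem Iso.sum {α' β' : Type} [Fintype α'] [DecidableEq α'] [Fintype β'] [DecidableEq β'] {A H : Matrix α α F}
    {A' H' : Matrix β β F} {B K : Matrix α' α' F} {B' K' : Matrix β' β' F} (h : Iso A H A' H') (h' : Iso B K B' K') :
    Iso (fromBlocks A 0 0 B) (fromBlocks H 0 0 K) (fromBlocks A' 0 0 B') (fromBlocks H' 0 0 K') := by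
  obtain ⟨Q, R, h1, h2, h3, h4⟩ := h
  obtain ⟨Q', R', h1', h2', h3', h4'⟩ := h'
  refine ⟨fromBlocks Q 0 0 Q', fromBlocks R 0 0 R', ?_, ?_, ?_, ?_⟩ <;>
    simp [fromBlocks_multiply, fromBlocks_transpose, h1, h2, h3, h4, h1', h2', h3', h4']

theorem Iso.submatrix (e : α ≃ β) (A' H' : Matrix β β F) :
    Iso (A'.submatrix e e) (H'.submatrix e e) A' H' := by
  classical
  refine ⟨(1 : Matrix β β F).submatrix id e, (1 : Matrix β β F).submatrix e id, ?_, ?_, ?_, ?_⟩
  · rw [submatrix_mul_equiv, one_mul, submatrix_id_id]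
  · rw [← Equiv.coe_refl, submatrix_mul_equiv, one_mul, submatrix_one_equiv]
  · rw [submatrix_mul_equiv, one_mul]
    conv_lhs => rw [← submatrix_id_id A', ← Equiv.coe_refl, submatrix_mul_equiv, mul_one]
    rfl
  · rw [transpose_submatrix, transpose_one]
    conv_lhs => rw [← submatrix_id_id H', ← Equiv.coe_refl, submatrix_mul_equiv, submatrix_mul_equiv, one_mul, mul_one]

/-- Equivalent pairs on one index type give conjugate isometries. -/
theorem Iso.exists_unit {A A' J : Matrix α α F} (h : Iso A J A' J) :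
    ∃ Q : (Matrix α α F)ˣ, (Q : Matrix α α F) * A = A' * Q ∧ (Q : Matrix α α F)ᵀ * J * Q = J := by
  obtain ⟨Q, R, h1, h2, h3, h4⟩ := h
  exact ⟨⟨Q, R, h1, h2⟩, h3.symm, h4⟩

end Iso

/-! ### The multiplicity forms -/

section Class

variable [Fintype F]

theorem isSquare_mul_iff {x y : F} (hx : x ≠ 0) (hy : y ≠ 0) : IsSquare (x * y) ↔ (IsSquare x ↔ IsSquare y) := by
  classical
  rw [← quadraticChar_one_iff_isSquare (mul_ne_zero hx hy), map_mul, ← quadraticChar_one_iff_isSquare hx,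
    ← quadraticChar_one_iff_isSquare hy]
  rcases quadraticChar_dichotomy hx with h | h <;> rcases quadraticChar_dichotomy hy with h' | h' <;>
    simp [h, h']

theorem exists_congr_matrix (h2 : (2 : F) ≠ 0) {ι : Type} [Fintype ι] [DecidableEq ι] {G G' : Matrix ι ι F}
    {ε : F} (hε : ε = 1 ∨ ε = -1) (hG : Gᵀ = ε • G) (hG' : G'ᵀ = ε • G') (hd : G.det ≠ 0) (hd' : G'.det ≠ 0)
    (hs : ε = 1 → IsSquare (G.det * G'.det)) : ∃ X : Matrix ι ι F, Xᵀ * G' * X = G := by
  rcases hε with rfl | rfl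
  · rw [one_smul] at hG hG'
    obtain ⟨P, hP⟩ := CfsgLib.Geometry.GraphPSL.congr_of_disc h2 hG' hG hd' hd (by rw [mul_comm]; exact hs rfl)
    exact ⟨_, hP⟩
  · rw [neg_one_smul] at hG hG'
    have hdiag : ∀ K : Matrix ι ι F, Kᵀ = -K → ∀ i, K i i = 0 := fun K hK i => by
      have h := congrFun (congrFun hK i) i
      rw [transpose_apply, Matrix.neg_apply] at h
      refine (mul_eq_zero.1 ?_).resolve_left h2
      linear_combination h
    obtain ⟨m, k, b, hc, -, hr⟩ := CfsgLib.Geometry.GraphPSL.exists_symp_family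
      (CfsgLib.Geometry.GraphPSL.isAlt_toBilin' hG (hdiag G hG))
    have hk : k = 0 := by
      by_contra hk
      exact b.ne_zero (Sum.inr ⟨0, Nat.pos_of_ne_zero hk⟩) (Matrix.eq_zero_of_mulVec_eq_zero hd (hr _))
    subst hk
    let e : Fin m ⊕ Fin m ≃ ι := Fintype.equivOfCardEq (by
      rw [Fintype.card_sum, Fintype.card_fin, hc]; omega)
    obtain ⟨P, hP⟩ := (CfsgLib.Geometry.GraphPSL.congr_alt hG' (hdiag G' hG') hd' e).trans
      (CfsgLib.Geometry.GraphPSL.congr_alt hG (hdiag G hG) hd e).symm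
    exact ⟨_, hP⟩

variable {δ : F} {t t' : ℕ} {d : Fin t → ℕ} {d' : Fin t' → ℕ}

theorem SForm.sign {H : Matrix (Idx d) (Idx d) F} (hH : SForm (RingHom.id F) δ d H) (i : ℕ) :
    (formG H i)ᵀ = (δ * (-1 : F) ^ (i - 1)) • formG H i := formG_cT hH i

/-- Two unipotent pieces with equal multiplicities and square classes are equivalent. -/
theorem iso_unip (h2 : (2 : F) ≠ 0) (hδ : δ = 1 ∨ δ = -1) {H : Matrix (Idx d) (Idx d) F}
    {H' : Matrix (Idx d') (Idx d') F} (hH : SForm (RingHom.id F) δ d H) (hH' : SForm (RingHom.id F) δ d' H') (c : F)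
    (hm : ∀ i, Fintype.card (Diag d i) = Fintype.card (Diag d' i))
    (hs : ∀ i, δ * (-1 : F) ^ (i - 1) = 1 → (IsSquare (formG H i).det ↔ IsSquare (formG H' i).det)) :
    Iso (c • (1 + shift d F)) H (c • (1 + shift d' F)) H' := by
  classical
  let τ : Fin t ≃ Fin t' := Equiv.ofFiberEquiv (f := d) (g := d') fun i => Fintype.equivOfCardEq (hm i)
  have hτ : ∀ k, d' (τ k) = d k := Equiv.ofFiberEquiv_map _
  let S : Idx d ≃ Idx d' := Equiv.sigmaCongr τ (fun k => finCongr (hτ k).symm)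
  have hS : ∀ p : Idx d, (S p).1 = τ p.1 ∧ ((S p).2 : ℕ) = p.2 := fun p => ⟨rfl, rfl⟩
  have hsh : (1 + shift d' F).submatrix S S = 1 + shift d F := by
    ext p p'
    simp only [submatrix_apply, Matrix.add_apply, Matrix.one_apply, S.injective.eq_iff, shift, Matrix.of_apply,
      (hS _).1, (hS _).2, τ.injective.eq_iff]
  obtain ⟨K, hK⟩ : ∃ K, K = H'.submatrix S S := ⟨_, rfl⟩
  have hKf : SForm (RingHom.id F) δ d K :=
    { pos := hH.pos
      delta_ne := hH.delta_ne
      herm := by rw [hK, cT_id, transpose_submatrix, ← cT_id H', hH'.herm]; rfl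
      det_ne := by rw [hK, det_submatrix_equiv_self]; exact hH'.det_ne
      inv := by
        rw [hK, cT_id, ← hsh, transpose_submatrix, submatrix_mul_equiv, submatrix_mul_equiv, ← cT_id, hH'.inv] }
  have hKe : ∀ i, ∃ e : Diag d i ≃ Diag d' i, formG K i = (formG H' i).submatrix e e := by
    intro i
    refine ⟨τ.subtypeEquiv fun k => by rw [hτ], ?_⟩
    ext ⟨k, hk⟩ ⟨l, hl⟩
    have := hH.pos l
    show ent K k 0 l (i - 1) = ent H' (τ k) 0 (τ l) (i - 1)
    rw [ent_eq K (hH.pos k) (show i - 1 < d l by omega), ent_eq H' (hH'.pos _) (show i - 1 < d' (τ l) by rw [hτ]; omega),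
      hK]
    rfl
  have hX : ∀ i, ∃ X : Matrix (Diag d i) (Diag d i) F, cT (RingHom.id F) X * formG K i * X = formG H i := by
    intro i
    obtain ⟨e, he⟩ := hKe i
    have hdet : (formG K i).det = (formG H' i).det := by rw [he, det_submatrix_equiv_self]
    refine exists_congr_matrix h2 (ε := δ * (-1 : F) ^ (i - 1)) ?_ (hH.sign i) (hKf.sign i)
      (formG_det_ne hH i) (formG_det_ne hKf i) fun hi => ?_
    · rcases hδ with rfl | rfl <;> rcases neg_one_pow_eq_or F (i - 1) with h | h <;> simp [h]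
    · rw [hdet, isSquare_mul_iff (formG_det_ne hH i) (formG_det_ne hH' i)]
      exact hs i hi
  obtain ⟨M, hMc, hM⟩ := congr_same hH hKf (fun _ => rfl) (ε := 2⁻¹) (by
    show (2 : F)⁻¹ + 2⁻¹ = 1
    field_simp
    norm_num) hX
  have hMd : IsUnit M.det := isUnit_iff_ne_zero.2 fun h0 => hH.det_ne (by
    rw [← hM, Matrix.det_mul, h0, mul_zero])
  have h1 : Iso (c • (1 + shift d F)) H (c • (1 + shift d F)) K :=
    ⟨M, M⁻¹, Matrix.mul_nonsing_inv M hMd, Matrix.nonsing_inv_mul M hMd, by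
      rw [smul_mul_assoc, mul_smul_comm]
      exact congrArg (c • ·) ((Commute.one_right M).add_right hMc).eq.symm, hM⟩
  refine h1.trans ?_
  rw [← hsh, hK]
  exact Iso.submatrix S (c • (1 + shift d' F)) H'

end Class

/-- The pieces without eigenvalues `±1`: similar ones are equivalent. -/
theorem iso_rest [Fintype F] (h2 : (2 : F) ≠ 0) {δ : F} (hδ : δ * δ = 1) {r : ℕ} {C C' H H' : Matrix (Fin r) (Fin r) F}
    (hH : Hᵀ = δ • H) (hHd : H.det ≠ 0) (hHC : Cᵀ * H * C = H) (hC1 : IsUnit (C - 1)) (hC2 : IsUnit (C + 1))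
    (hH' : H'ᵀ = δ • H') (hHd' : H'.det ≠ 0) (hHC' : C'ᵀ * H' * C' = H')
    (hsim : ∃ P : (Matrix (Fin r) (Fin r) F)ˣ, (P : Matrix (Fin r) (Fin r) F) * C = C' * P) :
    Iso C H C' H' := by
  classical
  obtain ⟨P, hP⟩ := hsim
  obtain ⟨K, hK⟩ : ∃ K, K = (P : Matrix (Fin r) (Fin r) F)ᵀ * H' * P := ⟨_, rfl⟩
  have hKs : Kᵀ = δ • K := by
    rw [hK, transpose_mul, transpose_mul, transpose_transpose, hH', smul_mul_assoc, mul_smul_comm, mul_assoc]
  have hKd : K.det ≠ 0 := by
    have h := ((Matrix.isUnit_iff_isUnit_det _).1 P.isUnit).ne_zero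
    rw [hK, det_mul, det_mul, det_transpose]
    exact mul_ne_zero (mul_ne_zero h hHd') h
  have hKC : Cᵀ * K * C = K := by
    rw [hK, ← mul_assoc, ← mul_assoc, ← transpose_mul, hP, transpose_mul, mul_assoc, mul_assoc, hP]
    calc (P : Matrix (Fin r) (Fin r) F)ᵀ * C'ᵀ * (H' * (C' * P))
        = (P : Matrix (Fin r) (Fin r) F)ᵀ * (C'ᵀ * H' * C') * P := by simp only [mul_assoc]
      _ = _ := by rw [hHC', mul_assoc]
  let st : Matrix (Fin r) (Fin r) F → Matrix (Fin r) (Fin r) F := fun X => H⁻¹ * Xᵀ * H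
  have hu : IsUnit H.det := isUnit_iff_ne_zero.2 hHd
  have hst : CfsgLib.KnownB.NormTrick.IsInvol st :=
    { map_add := fun x y => by simp only [st, transpose_add, Matrix.mul_add, Matrix.add_mul]
      map_mul := fun x y => by
        simp only [st, transpose_mul, ← mul_assoc, Matrix.mul_nonsing_inv_cancel_right _ _ hu]
      map_one := by simp only [st, transpose_one, mul_one, Matrix.nonsing_inv_mul H hu]
      invol := fun x => by
        show H⁻¹ * (H⁻¹ * xᵀ * H)ᵀ * H = x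
        have h' : H⁻¹ᵀ * H = δ • 1 := by
          have h1 : (H * H⁻¹)ᵀ = 1 := by rw [Matrix.mul_nonsing_inv H hu, transpose_one]
          rw [transpose_mul, hH, mul_smul_comm] at h1
          calc H⁻¹ᵀ * H = δ • (δ • (H⁻¹ᵀ * H)) := by rw [smul_smul, hδ, one_smul]
            _ = δ • 1 := by rw [h1]
        rw [transpose_mul, transpose_mul, transpose_transpose, hH, smul_mul_assoc, mul_smul_comm, smul_mul_assoc,
          ← mul_assoc, ← mul_assoc, Matrix.nonsing_inv_mul H hu, one_mul, mul_assoc, h', mul_smul_comm, mul_one,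
          smul_smul, hδ, one_smul] }
  obtain ⟨Ci, hCi⟩ : ∃ Ci, Ci = st C := ⟨_, rfl⟩
  have hCiC : Ci * C = 1 := by
    rw [hCi]
    show H⁻¹ * Cᵀ * H * C = 1
    rw [mul_assoc H⁻¹, mul_assoc H⁻¹, hHC, Matrix.nonsing_inv_mul H hu]
  have hCCi : C * Ci = 1 := mul_eq_one_comm.1 hCiC
  have hstCi : st Ci = C := by rw [hCi]; exact hst.invol C
  have hsmul : ∀ (a : F) (x : Matrix (Fin r) (Fin r) F), st (a • x) = a • st x := fun a x => by
    simp only [st, transpose_smul, Matrix.mul_smul, Matrix.smul_mul]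
  have hsub : ∀ x y : Matrix (Fin r) (Fin r) F, st (x - y) = st x - st y := fun x y => by
    simp only [st, transpose_sub, Matrix.mul_sub, Matrix.sub_mul]
  obtain ⟨θ, hθ⟩ : ∃ θ, θ = (2 : F)⁻¹ • (1 + (C - Ci)) := ⟨_, rfl⟩
  have hθs : st θ = (2 : F)⁻¹ • (1 - (C - Ci)) := by
    rw [hθ, hsmul, hst.map_add, hst.map_one, hsub, hstCi, ← hCi]
    congr 1
    abel
  obtain ⟨a, ha⟩ : ∃ a, a = H⁻¹ * K := ⟨_, rfl⟩
  have has : st a = a := by
    show H⁻¹ * aᵀ * H = a
    have h1 : H * a = K := by rw [ha, ← mul_assoc, Matrix.mul_nonsing_inv H hu, one_mul]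
    have h2 := congrArg transpose h1
    rw [transpose_mul, hH, hKs, mul_smul_comm] at h2
    rw [mul_assoc, smul_right_injective (Matrix (Fin r) (Fin r) F) (left_ne_zero_of_mul_eq_one hδ) h2, ha]
  have hau : IsUnit a := by
    rw [ha, Matrix.isUnit_iff_isUnit_det, det_mul]
    exact (Matrix.isUnit_nonsing_inv_det H hu).mul (isUnit_iff_ne_zero.2 hKd)
  have haC : Commute C a := by
    show C * a = a * C
    calc C * a = C * H⁻¹ * (Cᵀ * K * C) := by rw [hKC, ha, mul_assoc]
      _ = C * (H⁻¹ * Cᵀ * H) * (H⁻¹ * K) * C := by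
        simp only [mul_assoc, Matrix.mul_nonsing_inv_cancel_left _ _ hu]
      _ = a * C := by rw [show H⁻¹ * Cᵀ * H = Ci from hCi.symm, hCCi, one_mul, ha]
  have haCi : Commute Ci a := by
    show Ci * a = a * Ci
    calc Ci * a = Ci * (a * (C * Ci)) := by rw [hCCi, mul_one]
      _ = Ci * (C * a) * Ci := by rw [← mul_assoc a, ← haC.eq]; simp only [mul_assoc]
      _ = a * Ci := by rw [← mul_assoc Ci, hCiC, one_mul]
  have hCC : Commute C Ci := hCCi.trans hCiC.symm
  have hg : ∀ g : Matrix (Fin r) (Fin r) F, Commute g C → Commute g Ci → Commute g θ ∧ Commute g (st θ) :=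
    fun g h1 h2 => by
      rw [hθs, hθ]
      exact ⟨((Commute.one_right g).add_right (h1.sub_right h2)).smul_right _,
        ((Commute.one_right g).sub_right (h1.sub_right h2)).smul_right _⟩
  obtain ⟨c, hcu, hca, hcg⟩ := CfsgLib.KnownB.NormTrick.exists_factor hst has hau (θ := θ) ((hg a haC.symm haCi.symm).1.symm)
    ((hg θ (hg C (Commute.refl C) hCC).1.symm (hg Ci hCC.symm (Commute.refl Ci)).1.symm).2)
    (by
      rw [hθs, hθ, ← smul_add, add_add_sub_cancel, ← two_smul F (1 : Matrix (Fin r) (Fin r) F), smul_smul,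
        inv_mul_cancel₀ h2, one_smul])
    (by
      rw [hθs, hθ, ← smul_sub, show 1 + (C - Ci) - (1 - (C - Ci)) = (2 : F) • (C - Ci) by rw [two_smul]; abel,
        smul_smul, inv_mul_cancel₀ h2, one_smul]
      rw [show C - Ci = Ci * ((C - 1) * (C + 1)) by
        calc C - Ci = Ci * C * C - Ci := by rw [hCiC, one_mul]
          _ = _ := by noncomm_ring]
      exact (IsUnit.of_mul_eq_one C hCiC).mul (hC1.mul hC2))
  have hcC : Commute C c := hcg C haC (hg C (Commute.refl C) hCC).1 (hg C (Commute.refl C) hCC).2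
  have hcK : cᵀ * H * c = K := by
    calc cᵀ * H * c = H * (H⁻¹ * cᵀ * H * c) := by
          simp only [← mul_assoc, Matrix.mul_nonsing_inv H hu, one_mul]
      _ = H * a := by rw [← hca]
      _ = K := by rw [ha, ← mul_assoc, Matrix.mul_nonsing_inv H hu, one_mul]
  have hI1 : Iso C K C H := ⟨c, (hcu.unit⁻¹ : (Matrix (Fin r) (Fin r) F)ˣ).val, hcu.mul_val_inv, hcu.val_inv_mul,
    hcC.eq, hcK⟩
  exact hI1.symm.trans ⟨(P : Matrix (Fin r) (Fin r) F), _, P.mul_inv, P.inv_mul, hP.symm, hK.symm⟩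

end CfsgLib.FgsC.FormClasses
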