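import Cfsg.Agent.Lib.FgsC.FormClasses.Split
import Cfsg.Agent.Lib.FgsC.SUClasses.Invariant

/-!
The polynomial tuple of the piece without eigenvalues `±1`.
-/

set_option autoImplicit false
set_option linter.unusedSectionVars false

namespace CfsgLib.FgsC.FormClasses

open Polynomial CfsgLib.FgsB.GLClassBound CfsgLib.FgsC.PSLClasses CfsgLib.FgsC.SUClasses

universe u

variable {F : Type u} [Field F] {r : ℕ}

local notation "idF" => RingHom.id F

/-- The tuple of an invertible matrix, extended by ones. -/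
noncomputable def restTuple (C : Matrix (Fin r) (Fin r) F) (i : ℕ) : F[X] := by
  classical
  exact if h : C.det ≠ 0 then
    letI := (exists_divisors (Matrix.GeneralLinearGroup.mkOfDetNeZero C h)).choose_spec.choose
    if hi : i < r then
      tupleOf r (exists_divisors (Matrix.GeneralLinearGroup.mkOfDetNeZero C h)).choose_spec.choose_spec.choose
        (exists_divisors (Matrix.GeneralLinearGroup.mkOfDetNeZero C h)).choose_spec.choose_spec.choose_spec.choose
        ⟨i, hi⟩
    else 1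
  else 1

theorem restTuple_spec {C : Matrix (Fin r) (Fin r) F} (h : C.det ≠ 0) :
    ∃ (ι : Type u) (_ : Fintype ι) (p : ι → F[X]) (e : ι → ℕ), IsDivisorData r p e ∧
      Nonempty (MatModule C ≃ₗ[F[X]] ((i : ι) → F[X] ⧸ F[X] ∙ (p i ^ e i))) ∧
      (∀ i : Fin r, restTuple C i = tupleOf r p e i) ∧ ∀ i, r ≤ i → restTuple C i = 1 := by
  have hs := (exists_divisors (Matrix.GeneralLinearGroup.mkOfDetNeZero C h)).choose_spec.choose_spec.choose_spec.choose_spec
  refine ⟨_, _, _, _, ⟨hs.1, hs.2.1⟩, hs.2.2, fun i => ?_, fun i hi => ?_⟩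
  · rw [restTuple, dif_pos h, dif_pos i.2]
  · rw [restTuple, dif_pos h, dif_neg (by omega)]

/-- The pieces are similar when the tuples agree. -/
theorem similar_of_restTuple {r' : ℕ} {C : Matrix (Fin r) (Fin r) F} {C' : Matrix (Fin r') (Fin r') F}
    (h : C.det ≠ 0) (h' : C'.det ≠ 0) (hr : r = r') (hT : restTuple C = restTuple C') :
    ∃ P : (Matrix (Fin r') (Fin r') F)ˣ,
      (P : Matrix (Fin r') (Fin r') F) * C.submatrix (Fin.cast hr.symm) (Fin.cast hr.symm) = C' * P := by
  subst hr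
  obtain ⟨ι, _, p, e, hd, hE, hT1, -⟩ := restTuple_spec h
  obtain ⟨κ, _, p', e', hd', hE', hT1', -⟩ := restTuple_spec h'
  obtain ⟨g, hg⟩ := isConj_iff.1 (isConj_of_tupleOf_eq (A := Matrix.GeneralLinearGroup.mkOfDetNeZero C h)
    (B := Matrix.GeneralLinearGroup.mkOfDetNeZero C' h') hd hd' hE hE' (funext fun i => by rw [← hT1, ← hT1', hT]))
  exact ⟨g, congrArg Units.val (mul_inv_eq_iff_eq_mul.1 hg)⟩

theorem eval_prod_ne {C : Matrix (Fin r) (Fin r) F} {c : F} (hc : IsUnit (C - c • 1))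
    {ι : Type u} [Fintype ι] {p : ι → F[X]} {e : ι → ℕ} (hd : IsDivisorData r p e)
    (hE : Nonempty (MatModule C ≃ₗ[F[X]] ((i : ι) → F[X] ⧸ F[X] ∙ (p i ^ e i)))) (x : ι) :
    (p x).eval c ≠ 0 := by
  classical
  intro hx
  obtain ⟨E⟩ := hE
  obtain ⟨hpm, hpi, -, hex, -⟩ := hd.1 x
  have hpx : p x = X - Polynomial.C c := (eq_of_monic_of_associated (monic_X_sub_C c) hpm
    ((irreducible_X_sub_C c).associated_of_dvd hpi (dvd_iff_isRoot.2 hx))).symm
  obtain ⟨m, hm⟩ : ∃ m, e x = m + 1 := ⟨e x - 1, by omega⟩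
  set w : (i : ι) → F[X] ⧸ F[X] ∙ (p i ^ e i) := Pi.single x (Submodule.Quotient.mk (p x ^ m)) with hw
  have hpw : (p x) • w = 0 := by
    rw [hw, ← Pi.single_smul, ← Submodule.Quotient.mk_smul, Pi.single_eq_zero_iff, Submodule.Quotient.mk_eq_zero,
      Ideal.mem_span_singleton, smul_eq_mul, ← pow_succ', hm]
  have hv : (C - c • 1).mulVec ((Module.AEval'.of (Matrix.toLin' C)).symm (E.symm w)) = 0 := by
    have h1 : (Module.AEval'.of (Matrix.toLin' C)).symm ((p x) • E.symm w) = 0 := by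
      rw [← map_smul, hpw, map_zero, map_zero]
    rw [hpx, sub_smul, map_sub, Module.AEval'.of_symm_X_smul, ← Polynomial.algebraMap_eq,
      IsScalarTower.algebraMap_smul, LinearEquiv.map_smul, Matrix.toLin'_apply] at h1
    rw [Matrix.sub_mulVec, Matrix.smul_mulVec, Matrix.one_mulVec]
    exact h1
  have hv0 := Matrix.eq_zero_of_mulVec_eq_zero ((Matrix.isUnit_iff_isUnit_det _).1 hc).ne_zero hv
  simp only [LinearEquiv.map_eq_zero_iff, hw, Pi.single_eq_zero_iff, Submodule.Quotient.mk_eq_zero,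
    Ideal.mem_span_singleton, hm] at hv0
  have := natDegree_le_of_dvd hv0 (pow_ne_zero _ hpm.ne_zero)
  rw [natDegree_pow, natDegree_pow, hpx, natDegree_X_sub_C] at this
  omega

theorem kerDim_tl_form {C H : Matrix (Fin r) (Fin r) F} (hC : C.det ≠ 0) (hH : H.det ≠ 0)
    (hCH : C.transpose * H * C = H) {h : F[X]} (h0 : h.coeff 0 ≠ 0) :
    kerDim C (tl idF h) = kerDim C h := by
  let A : GL (Fin r) F := Matrix.GeneralLinearGroup.mkOfDetNeZero C hC
  let U : GL (Fin r) F := Matrix.GeneralLinearGroup.mkOfDetNeZero H hH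
  have hAv : (A : Matrix (Fin r) (Fin r) F) = C := rfl
  have hUv : (U : Matrix (Fin r) (Fin r) F) = H := rfl
  have hUinj : ∀ M : Matrix (Fin r) (Fin r) F, nullity (M * (U : Matrix (Fin r) (Fin r) F)) = nullity M := fun M => by
    rw [← nullity_transpose, Matrix.transpose_mul]
    let V : GL (Fin r) F := Matrix.GeneralLinearGroup.mkOfDetNeZero
      (U : Matrix (Fin r) (Fin r) F).transpose (by rw [Matrix.det_transpose]; exact hH)
    rw [show (U : Matrix (Fin r) (Fin r) F).transpose = (V : Matrix (Fin r) (Fin r) F) from rfl, nullity_unit_mul,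
      nullity_transpose]
  have hinv : ((A⁻¹ : GL (Fin r) F) : Matrix (Fin r) (Fin r) F) =
      ((U⁻¹ : GL (Fin r) F) : Matrix (Fin r) (Fin r) F) * C.transpose * U := by
    have e : ((U⁻¹ : GL (Fin r) F) : Matrix (Fin r) (Fin r) F) * C.transpose * U * A = 1 := by
      rw [hUv, hAv, mul_assoc, mul_assoc, ← mul_assoc C.transpose, hCH, ← hUv, ← Units.val_mul, inv_mul_cancel,
        Units.val_one]
    exact (left_inv_eq_right_inv e A.mul_inv).symm
  have hconj : aeval ((A⁻¹ : GL (Fin r) F) : Matrix (Fin r) (Fin r) F) h =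
      ((U⁻¹ : GL (Fin r) F) : Matrix (Fin r) (Fin r) F) * aeval C.transpose h * U := by
    rw [hinv, aeval_eq_sum_range, aeval_eq_sum_range, Finset.mul_sum, Finset.sum_mul]
    refine Finset.sum_congr rfl fun k hk => ?_
    clear hk
    rw [mul_smul_comm, smul_mul_assoc]
    congr 1
    induction k with
    | zero => rw [pow_zero, pow_zero, mul_one, ← Units.val_mul, inv_mul_cancel, Units.val_one]
    | succ k ih =>
      rw [pow_succ, ih, pow_succ]
      simp only [mul_assoc]
      rw [Units.mul_inv_cancel_left]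
  have htr : aeval C.transpose h = (aeval C h).transpose := by
    rw [aeval_eq_sum_range, aeval_eq_sum_range, Matrix.transpose_sum]
    exact Finset.sum_congr rfl fun k _ => by rw [Matrix.transpose_smul, Matrix.transpose_pow]
  rw [kerDim_eq_nullity, kerDim_eq_nullity, tl, map_mul, Polynomial.map_id, aeval_C, ← Algebra.smul_def,
    nullity_smul (inv_ne_zero (by simpa using h0)), show aeval C h.reverse = _ from aeval_reverse A h,
    nullity_unit_mul, hconj, hUinj, nullity_unit_mul, htr, nullity_transpose]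

/-- Facts on the tuple of a piece without eigenvalues `±1`. -/
theorem restTuple_props {C H : Matrix (Fin r) (Fin r) F} (hH : H.det ≠ 0) (hCH : C.transpose * H * C = H)
    (h1 : IsUnit (C - 1)) (h2 : IsUnit (C + 1)) :
    C.det ≠ 0 ∧
    (∀ i, (restTuple C i).Monic ∧ (restTuple C i).coeff 0 ≠ 0 ∧ tl idF (restTuple C i) = restTuple C i ∧
      (restTuple C i).eval 1 ≠ 0 ∧ (restTuple C i).eval (-1) ≠ 0) ∧
    (∑ i : Fin r, ((i : ℕ) + 1) * (restTuple C i).natDegree = r) ∧ ∀ i, r ≤ i → restTuple C i = 1 := by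
  classical
  have hC : C.det ≠ 0 := det_ne_of_preserves hH hCH
  obtain ⟨ι, _, p, e, hd, hE, hT, hT1⟩ := restTuple_spec hC
  refine ⟨hC, fun i => ?_, ?_, hT1⟩
  · rcases Nat.lt_or_ge i r with hi | hi
    · have hmem := (tupleOf_mem hd).1 ⟨i, hi⟩
      rw [show restTuple C i = _ from hT ⟨i, hi⟩]
      refine ⟨hmem.1, hmem.2, ?_, ?_, ?_⟩
      · exact tl_tupleOf_of_kerDim (σ := idF) (fun _ => rfl) (A := Matrix.GeneralLinearGroup.mkOfDetNeZero C hC)
          (fun h h0 => kerDim_tl_form hC hH hCH h0) hd hE _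
      · rw [tupleOf_apply, eval_prod]
        exact Finset.prod_ne_zero_iff.2 fun x _ => eval_prod_ne (by rwa [one_smul]) hd hE x
      · rw [tupleOf_apply, eval_prod]
        exact Finset.prod_ne_zero_iff.2 fun x _ => eval_prod_ne (by rwa [neg_one_smul, sub_neg_eq_add]) hd hE x
    · rw [hT1 i hi]
      exact ⟨monic_one, by simp, tl_one _, by simp, by simp⟩
  · refine Eq.trans (Finset.sum_congr rfl fun i _ => ?_) (tupleOf_mem hd).2
    rw [hT, add_comm]

end CfsgLib.FgsC.FormClasses
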