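import Cfsg.Agent.Lib.FgsC.FormClasses.Classes
import Cfsg.Agent.Lib.KnownB.ClassCount

/-!
`q^n ≤ k(Sp_2n(q)) ≤ 10.8 q^n` in odd characteristic.
-/

set_option autoImplicit false

namespace CfsgLib.FgsC.FormClasses

open Polynomial Finset

universe u

variable {F : Type u} [Field F] [Fintype F]

theorem slotB_neg_one (h2 : (2 : F) ≠ 0) (i : ℕ) : slotB (-1 : F) i = true ↔ Odd i := by
  rw [slotB_eq_true, IsSlot]
  rcases Nat.even_or_odd i with h | h
  · rw [h.neg_one_pow, mul_one]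
    refine ⟨fun e => absurd (by linear_combination -e) h2, fun ho => absurd h (Nat.not_even_iff_odd.2 ho)⟩
  · rw [h.neg_one_pow, neg_mul_neg, one_mul]
    exact iff_of_true rfl h

theorem bitProd_neg_one (h2 : (2 : F) ≠ 0) (t : ℝ) (n : ℕ) :
    ∏ i : Fin (2 * n), (bitW (slotB (-1 : F)) t i true + 1) ^ 4 =
      (∏ j ∈ range n, (1 + (t ^ 2) ^ (j + 1))) ^ 4 := by
  rw [Fin.prod_univ_eq_prod_range (fun i => (bitW (slotB (-1 : F)) t i true + 1) ^ 4), ← Finset.prod_pow]
  induction n with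
  | zero => simp
  | succ n ih =>
    rw [show 2 * (n + 1) = 2 * n + 1 + 1 by ring, Finset.prod_range_succ _ (2 * n + 1),
      Finset.prod_range_succ _ (2 * n), ih, Finset.prod_range_succ _ n]
    have h1 : slotB (-1 : F) (2 * n) = false := Bool.eq_false_iff.2 fun h =>
      Nat.not_even_iff_odd.2 ((slotB_neg_one h2 _).1 h) (even_two_mul n)
    have h3 : slotB (-1 : F) (2 * n + 1) = true := (slotB_neg_one h2 _).2 (odd_two_mul_add_one n)
    simp only [bitW, h1, h3, if_true, Bool.false_eq_true, if_false]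
    rw [← pow_mul]
    ring

theorem codeSum_neg_one_le (hodd : Odd (Fintype.card F)) (n : ℕ) :
    5 * codeSum (Fintype.card F) (2 * n) (slotB (-1 : F)) ≤ 54 * Fintype.card F ^ n := by
  have h2 := two_ne_zero_of_odd hodd
  have hq3 : 3 ≤ Fintype.card F := by
    have := Fintype.one_lt_card (α := F)
    obtain ⟨k, hk⟩ := hodd
    omega
  set q := Fintype.card F
  have hq : (3 : ℝ) ≤ q := by exact_mod_cast hq3
  set t : ℝ := (Real.sqrt q)⁻¹ with ht
  have ht0 : 0 ≤ t := by positivity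
  have ht2 : t ^ 2 = 1 / (q : ℝ) := by rw [ht, inv_pow, Real.sq_sqrt (by positivity), one_div]
  have htq : t ^ 2 * q = 1 := by rw [ht2]; field_simp
  have h := codeSum_le_prodW ht0 htq (2 * n) (slotB (-1 : F))
  have ht3 : t ^ 2 ≤ 1 / 3 := by rw [ht2]; exact one_div_le_one_div_of_le (by norm_num) hq
  have hP : prodW (2 * n) (slotB (-1 : F)) t ≤ 17854 / 10000 * (15650 / 10000) ^ 4 := by
    rw [prodW, Finset.prod_mul_distrib, bitProd_neg_one h2]
    exact mul_le_mul (degProd_le ht3 _) (pow_le_pow_left₀ (Finset.prod_nonneg fun j _ => by positivity)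
      (evenBits_le (sq_nonneg t) ht3 n) 4) (by positivity) (by norm_num)
  have h1 := h.trans hP
  rw [pow_mul, ht2, one_div, inv_pow, mul_inv_le_iff₀ (by positivity)] at h1
  rw [← Nat.cast_le (α := ℝ)]
  push_cast
  have : (0 : ℝ) ≤ (q : ℝ) ^ n := by positivity
  nlinarith

theorem card_sp_le (hodd : Odd (Fintype.card F)) (n : ℕ) :
    5 * Nat.card (ConjClasses (Matrix.symplecticGroup (Fin n) F)) ≤ 54 * Fintype.card F ^ n := by
  have h := card_classes_le (δ := (-1 : F)) (J := Matrix.J (Fin n) F) (Matrix.symplecticGroup (Fin n) F).subtype hodd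
    (Or.inr rfl) (by rw [Matrix.J_transpose, neg_one_smul]) (Matrix.isUnit_det_J (Fin n) F).ne_zero
    Subtype.val_injective (fun g => SymplecticGroup.mem_iff'.1 g.2)
    (fun A hA => ⟨⟨A, SymplecticGroup.mem_iff'.2 hA⟩, rfl⟩)
  rw [Fintype.card_sum, Fintype.card_fin, ← two_mul] at h
  exact (Nat.mul_le_mul_left 5 h).trans (codeSum_neg_one_le hodd n)

theorem card_sp_ge (n : ℕ) :
    Fintype.card F ^ n ≤ Nat.card (ConjClasses (Matrix.symplecticGroup (Fin n) F)) := by
  classical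
  haveI : Finite (Matrix.symplecticGroup (Fin n) F) := inferInstance
  let e : {p : F[X] // p.Monic ∧ p.natDegree = n} ≃ (Fin n → F) :=
    (monicEquivDegreeLT n).trans (degreeLTEquiv F n).toEquiv
  choose M hM using fun v => CfsgLib.KnownB.ClassCount.exists_symplectic (e.symm v).1 (e.symm v).2.1 (e.symm v).2.2
  refine le_trans (le_of_eq (by rw [Nat.card_fun, Nat.card_fin, Nat.card_eq_fintype_card] :
    Fintype.card F ^ n = Nat.card (Fin n → F))) (Nat.card_le_card_of_injective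
      (fun v => ConjClasses.mk (M v)) fun v w h => ?_)
  obtain ⟨c, hc⟩ := isConj_iff.1 (ConjClasses.mk_eq_mk_iff_isConj.1 h)
  let j : Matrix.symplecticGroup (Fin n) F →* GL (Fin n ⊕ Fin n) F := (Submonoid.subtype _).toHomUnits
  have h1 : (M v : Matrix (Fin n ⊕ Fin n) (Fin n ⊕ Fin n) F).charpoly =
      (M w : Matrix (Fin n ⊕ Fin n) (Fin n ⊕ Fin n) F).charpoly := by
    rw [← hc]
    have h3 : ((c * M v * c⁻¹ : Matrix.symplecticGroup (Fin n) F) : Matrix (Fin n ⊕ Fin n) (Fin n ⊕ Fin n) F) =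
        ((j c : GL (Fin n ⊕ Fin n) F) : Matrix (Fin n ⊕ Fin n) (Fin n ⊕ Fin n) F) * (M v : Matrix _ _ F) *
          (((j c)⁻¹ : GL (Fin n ⊕ Fin n) F) : Matrix (Fin n ⊕ Fin n) (Fin n ⊕ Fin n) F) := by
      rw [← map_inv]
      rfl
    rw [h3, Matrix.coe_units_inv, Matrix.charpoly_units_conj]
  refine e.symm.injective (Subtype.ext (CfsgLib.KnownB.ClassCount.eq_of_aeval_eq _ _ fun t ht => ?_))
  have h4 := hM v (AlgebraicClosure F) t ht
  rw [h1, hM w (AlgebraicClosure F) t ht] at h4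
  exact (mul_left_cancel₀ (pow_ne_zero _ ht) h4).symm

end CfsgLib.FgsC.FormClasses
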