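import Cfsg.Agent.Lib.FgsC.FormClasses.Pieces
import Cfsg.Agent.Lib.KnownB.Jordan

/-!
Normal form of an isometry: two unipotent pieces (for the eigenvalues `1` and `-1`) and a piece without these
eigenvalues, pairwise orthogonal.
-/

set_option autoImplicit false
set_option linter.unusedSectionVars false

namespace CfsgLib.FgsC.FormClasses

open Matrix Module CfsgLib.KnownB.JordanCent CfsgLib.Classical.Unitary CfsgLib.KnownB.UnitJordan

universe u

variable {F : Type u} [Field F] {κ : Type} [Fintype κ] [DecidableEq κ]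

/-- Splitting off the generalised eigenspace of `c`. -/
theorem split_linear (A : Matrix κ κ F) {c : F} (hc : c * c = 1) :
    ∃ (t : ℕ) (d : Fin t → ℕ) (r : ℕ) (P : Matrix κ (Idx d ⊕ Fin r) F) (R : Matrix (Idx d ⊕ Fin r) κ F)
      (C : Matrix (Fin r) (Fin r) F), (∀ k, 1 ≤ d k) ∧ P * R = 1 ∧ R * P = 1 ∧
      A * P = P * fromBlocks (c • (1 + shift d F)) 0 0 C ∧ IsUnit (C - c • 1) := by
  classical
  obtain ⟨N, hN⟩ : ∃ N : Module.End F (κ → F), N = c • Matrix.toLin' A - 1 := ⟨_, rfl⟩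
  obtain ⟨m, hm⟩ := Filter.eventually_atTop.1 N.eventually_isCompl_ker_pow_range_pow
  have hC := hm (m + 1) (Nat.le_succ m)
  set K := LinearMap.ker (N ^ (m + 1)) with hK
  set Rg := LinearMap.range (N ^ (m + 1)) with hR
  have hKmem : ∀ x ∈ K, N x ∈ K := fun x hx => by
    rw [hK, LinearMap.mem_ker] at hx ⊢
    rw [← Module.End.mul_apply, ← pow_succ, pow_succ', Module.End.mul_apply, hx, map_zero]
  have hRmem : ∀ x ∈ Rg, N x ∈ Rg := fun x hx => by
    obtain ⟨y, rfl⟩ := hx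
    exact ⟨N y, by rw [← Module.End.mul_apply, ← pow_succ, pow_succ', Module.End.mul_apply]⟩
  have hpow : ∀ (j : ℕ) (x : K), (((N.restrict hKmem) ^ j) x : κ → F) = (N ^ j) x := by
    intro j
    induction j with
    | zero => intro x; rfl
    | succ j ih =>
      intro x
      rw [pow_succ', Module.End.mul_apply, LinearMap.coe_restrict_apply, ih, pow_succ' N, Module.End.mul_apply]
  obtain ⟨t, d, bK, hd, hbK⟩ := CfsgLib.KnownB.Jordan.exists_chains (N.restrict hKmem)
    ⟨m + 1, LinearMap.ext fun x => Subtype.ext (by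
      rw [hpow]
      exact LinearMap.mem_ker.1 x.2)⟩
  let bR := Module.finBasis F Rg
  let b : Basis (Idx d ⊕ Fin (finrank F Rg)) F (κ → F) := (bK.prod bR).map (Submodule.prodEquivOfIsCompl K Rg hC)
  have hbl : ∀ x, b (Sum.inl x) = (bK x : κ → F) := fun x => by simp [b, Module.Basis.prod_apply]
  have hbr : ∀ y, b (Sum.inr y) = (bR y : κ → F) := fun y => by simp [b, Module.Basis.prod_apply]
  have hf : ∀ v, Matrix.toLin' A v = c • (v + N v) := fun v => by
    rw [hN]
    simp [smul_smul, hc]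
  let fR : Module.End F Rg := c • (1 + N.restrict hRmem)
  let C : Matrix (Fin (finrank F Rg)) (Fin (finrank F Rg)) F := LinearMap.toMatrix bR bR fR
  refine ⟨t, d, finrank F Rg, (Pi.basisFun F κ).toMatrix b, b.toMatrix (Pi.basisFun F κ), C, hd,
    Basis.toMatrix_mul_toMatrix_flip _ _, Basis.toMatrix_mul_toMatrix_flip _ _, ?_, ?_⟩
  · have hcol : ∀ x, Matrix.toLin' A (b x) = ∑ y, fromBlocks (c • (1 + shift d F)) 0 0 C y x • b y := by
      intro x
      rw [Fintype.sum_sum_type]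
      rcases x with x | x
      · simp only [fromBlocks_apply₁₁, fromBlocks_apply₂₁, Matrix.zero_apply, zero_smul, Finset.sum_const_zero,
          add_zero, hbl, Matrix.smul_apply, Matrix.add_apply, smul_eq_mul, mul_add, add_smul, Finset.sum_add_distrib,
          mul_smul, ← Finset.smul_sum, ← smul_add]
        rw [hf]
        congr 2
        · simp [Matrix.one_apply, ite_smul]
        · have h := congrArg Subtype.val (hbK x)
          rw [LinearMap.coe_restrict_apply] at h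
          rw [h]
          split_ifs with h1
          · rw [Finset.sum_eq_single (⟨x.1, ⟨_, h1⟩⟩ : Idx d)]
            · simp [shift]
            · rintro ⟨k, y⟩ _ hne
              rw [shift, Matrix.of_apply, if_neg, zero_smul]
              rintro ⟨e1, e2⟩
              apply hne
              change k = x.1 at e1
              subst e1
              exact congrArg (Sigma.mk _) (Fin.ext e2)
            · simp
          · symm
            refine Finset.sum_eq_zero fun ⟨k, y⟩ _ => ?_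
            rw [shift, Matrix.of_apply, if_neg, zero_smul]
            rintro ⟨e1, e2⟩
            change k = x.1 at e1
            subst e1
            change (y : ℕ) = x.2 + 1 at e2
            exact h1 (e2 ▸ y.isLt)
      · simp only [fromBlocks_apply₁₂, fromBlocks_apply₂₂, Matrix.zero_apply, zero_smul, Finset.sum_const_zero,
          zero_add, hbr]
        have h := congrArg Subtype.val (bR.sum_repr (fR (bR x)))
        rw [hf]
        refine Eq.trans ?_ (h.symm.trans ?_)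
        · simp [fR]
        · simp only [C, LinearMap.toMatrix_apply, AddSubmonoidClass.coe_finsetSum, SetLike.val_smul]
    ext i x
    have h := congrFun (hcol x) i
    rw [Matrix.toLin'_apply, Finset.sum_apply] at h
    simp only [Matrix.mul_apply, Basis.toMatrix_apply, Pi.basisFun_repr]
    refine Eq.trans ?_ (h.trans ?_)
    · rfl
    · simp [mul_comm]
  · have hinj : LinearMap.ker (fR - c • 1) = ⊥ := by
      refine LinearMap.ker_eq_bot'.2 fun v hv => ?_
      have h1 : c • (N v.1) = 0 := by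
        have := congrArg Subtype.val hv
        simpa [fR, smul_add] using this
      rw [smul_eq_zero] at h1
      refine Subtype.ext ((Submodule.mem_bot F).1 (hC.disjoint.le_bot ⟨?_, v.2⟩))
      show v.1 ∈ LinearMap.ker (N ^ (m + 1))
      rw [LinearMap.mem_ker, pow_succ, Module.End.mul_apply,
        h1.resolve_left (left_ne_zero_of_mul_eq_one hc), map_zero]
    have hu : IsUnit (fR - c • 1) := LinearMap.isUnit_iff_ker_eq_bot _ |>.2 hinj
    have := hu.map (LinearMap.toMatrixAlgEquiv bR)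
    have e : LinearMap.toMatrix bR bR (fR - c • 1) = C - c • 1 := by
      refine ((LinearMap.toMatrix bR bR).map_sub fR (c • 1)).trans (congrArg (C - ·) ?_)
      exact ((LinearMap.toMatrix bR bR).map_smul c 1).trans (congrArg (c • ·) (LinearMap.toMatrix_one bR))
    rw [← e]
    exact this

theorem isNilpotent_shift {t : ℕ} {d : Fin t → ℕ} (hd : ∀ k, 1 ≤ d k) : IsNilpotent (shift d F) := by
  refine InKer.isNilpotent hd ⟨Commute.refl _, fun i => Matrix.ext fun k l => ?_⟩
  show shift d F _ _ = 0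
  simp [shift]

theorem det_ne_of_preserves {H A : Matrix κ κ F} (hHd : H.det ≠ 0) (hA : Aᵀ * H * A = H) : A.det ≠ 0 :=
  fun h0 => hHd (by rw [← hA, det_mul, h0, mul_zero])

/-- A piece for `c` is orthogonal to a piece without the eigenvalue `c`. -/
theorem cross_zero {t : ℕ} {d : Fin t → ℕ} (hd : ∀ k, 1 ≤ d k) {r : ℕ} {C : Matrix (Fin r) (Fin r) F}
    {H : Matrix (Idx d) (Fin r) F} {c : F} (hc : c * c = 1) (hCd : IsUnit C.det) (hC : IsUnit (C - c • 1))
    (h : (c • (1 + shift d F))ᵀ * H * C = H) : H = 0 := by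
  classical
  obtain ⟨Z, hZ⟩ : ∃ Z, Z = c • (shift d F)ᵀ := ⟨_, rfl⟩
  obtain ⟨U, hU⟩ : ∃ U, U = (-c) • ((C - c • 1) * C⁻¹) := ⟨_, rfl⟩
  have hUu : IsUnit U := by
    have hc0 : -c ≠ 0 := neg_ne_zero.2 (left_ne_zero_of_mul_eq_one hc)
    rw [hU, Matrix.isUnit_iff_isUnit_det, det_smul, det_mul]
    exact ((isUnit_iff_ne_zero.2 hc0).pow _).mul
      (((Matrix.isUnit_iff_isUnit_det _).1 hC).mul (Matrix.isUnit_nonsing_inv_det C hCd))
  have h1 : c • (H * C) + Z * H * C = H := by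
    rw [transpose_smul, transpose_add, transpose_one, smul_add, ← hZ, Matrix.add_mul, Matrix.add_mul,
      Matrix.smul_mul, Matrix.one_mul, Matrix.smul_mul] at h
    exact h
  have hZH : Z * H = H * U := by
    have h2 : Z * H * C = (-c) • (H * (C - c • 1)) := by
      rw [Matrix.mul_sub, Matrix.mul_smul, Matrix.mul_one, smul_sub, smul_smul, neg_mul, hc, neg_smul, neg_smul,
        one_smul]
      linear_combination (norm := module) h1
    calc Z * H = Z * H * C * C⁻¹ := (Matrix.mul_nonsing_inv_cancel_right C (Z * H) hCd).symm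
      _ = H * U := by rw [h2, hU, Matrix.smul_mul, Matrix.mul_smul, Matrix.mul_assoc]
  have hk : ∀ k : ℕ, Z ^ k * H = H * U ^ k := by
    intro k
    induction k with
    | zero => simp
    | succ k ih => rw [pow_succ, Matrix.mul_assoc, hZH, ← Matrix.mul_assoc, ih, Matrix.mul_assoc, ← pow_succ]
  obtain ⟨k, hk0⟩ := isNilpotent_shift (F := F) hd
  have h0 := hk k
  rw [hZ, smul_pow, ← transpose_pow, hk0, transpose_zero, smul_zero, Matrix.zero_mul] at h0
  have h3 := congrArg (· * (U ^ k)⁻¹) h0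
  simp only [Matrix.zero_mul, Matrix.mul_assoc,
    Matrix.mul_nonsing_inv _ ((Matrix.isUnit_iff_isUnit_det _).1 (hUu.pow k)), Matrix.mul_one] at h3
  exact h3.symm

/-- Splitting off an orthogonal unipotent piece. -/
theorem split_form {δ : F} (hδ : δ * δ = 1) {c : F} (hc : c * c = 1) {A H : Matrix κ κ F} (hH : Hᵀ = δ • H)
    (hHd : H.det ≠ 0) (hA : Aᵀ * H * A = H) :
    ∃ (t : ℕ) (d : Fin t → ℕ) (r : ℕ) (H1 : Matrix (Idx d) (Idx d) F) (C H2 : Matrix (Fin r) (Fin r) F),
      SForm (RingHom.id F) δ d H1 ∧ H2ᵀ = δ • H2 ∧ H2.det ≠ 0 ∧ Cᵀ * H2 * C = H2 ∧ IsUnit (C - c • 1) ∧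
      (∀ c' : F, IsUnit (A - c' • 1) → IsUnit (C - c' • 1)) ∧
      Iso (fromBlocks (c • (1 + shift d F)) 0 0 C) (fromBlocks H1 0 0 H2) A H := by
  classical
  obtain ⟨t, d, r, P, R, C, hd, hPR, hRP, hAP, hCc⟩ := split_linear A hc
  set B := fromBlocks (c • (1 + shift d F)) 0 0 C with hB
  obtain ⟨K, hK⟩ : ∃ K, K = Pᵀ * H * P := ⟨_, rfl⟩
  have hKs : Kᵀ = δ • K := by
    rw [hK, transpose_mul, transpose_mul, transpose_transpose, hH, Matrix.smul_mul, Matrix.mul_smul,
      Matrix.mul_assoc]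
  have hIso : Iso B K A H := ⟨P, R, hPR, hRP, hAP, hK.symm⟩
  have hKd : K.det ≠ 0 := by
    obtain ⟨Q, Q', h1, h2, -, h4⟩ := hIso.symm
    intro h0
    obtain ⟨v, hv, hKv⟩ := Matrix.exists_mulVec_eq_zero_iff.2 h0
    have hPv : P *ᵥ v ≠ 0 := fun e => hv (by
      have := congrArg (R *ᵥ ·) e
      simpa [Matrix.mulVec_mulVec, hRP] using this)
    refine hPv (Matrix.eq_zero_of_mulVec_eq_zero hHd ?_)
    rw [← h4, Matrix.mulVec_mulVec, Matrix.mul_assoc]
    have hQP : Qᵀ * K * Q = Qᵀ * Pᵀ * H * (P * Q) := by rw [hK]; simp only [Matrix.mul_assoc]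
    have hH' : H * P = Rᵀ * K := by
      rw [hK, ← Matrix.mul_assoc, ← Matrix.mul_assoc, ← transpose_mul, hPR, transpose_one, Matrix.one_mul]
    rw [← Matrix.mul_assoc, h4, hH', ← Matrix.mulVec_mulVec, hKv, Matrix.mulVec_zero]
  have hKB : Bᵀ * K * B = K := by
    have e : (P * B)ᵀ * H * (P * B) = Bᵀ * K * B := by rw [hK, transpose_mul]; simp only [Matrix.mul_assoc]
    rw [← e, ← hAP, transpose_mul, hK]
    calc Pᵀ * Aᵀ * H * (A * P) = Pᵀ * (Aᵀ * H * A) * P := by simp only [Matrix.mul_assoc]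
      _ = _ := by rw [hA]
  have hBd := det_ne_of_preserves hKd hKB
  rw [hB, det_fromBlocks_zero₂₁] at hBd
  rw [← fromBlocks_toBlocks K, hB, fromBlocks_transpose, fromBlocks_multiply, fromBlocks_multiply] at hKB
  simp only [transpose_zero, Matrix.zero_mul, Matrix.mul_zero, add_zero, zero_add] at hKB
  obtain ⟨e11, e12, -, e22⟩ := fromBlocks_inj.1 hKB
  have h12 : K.toBlocks₁₂ = 0 := cross_zero hd hc (isUnit_iff_ne_zero.2 (right_ne_zero_of_mul hBd)) hCc e12
  rw [← fromBlocks_toBlocks K, fromBlocks_transpose, fromBlocks_smul] at hKs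
  obtain ⟨s11, -, s21, s22⟩ := fromBlocks_inj.1 hKs
  have h21 : K.toBlocks₂₁ = 0 := by
    rw [h12, transpose_zero] at s21
    exact (smul_eq_zero.1 s21.symm).resolve_left (left_ne_zero_of_mul_eq_one hδ)
  have hKblk : K = fromBlocks K.toBlocks₁₁ 0 0 K.toBlocks₂₂ := by
    conv_lhs => rw [← fromBlocks_toBlocks K, h12, h21]
  rw [hKblk] at hKd hIso
  rw [det_fromBlocks_zero₂₁] at hKd
  refine ⟨t, d, r, K.toBlocks₁₁, C, K.toBlocks₂₂,
    ⟨hd, left_ne_zero_of_mul_eq_one hδ, s11, left_ne_zero_of_mul hKd, ?_⟩, s22, right_ne_zero_of_mul hKd, e22,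
    hCc, fun c' hA' => ?_, hIso⟩
  · rw [cT_id]
    rwa [transpose_smul, Matrix.smul_mul, Matrix.smul_mul, Matrix.mul_smul, smul_smul, hc, one_smul] at e11
  · rw [Matrix.isUnit_iff_isUnit_det, isUnit_iff_ne_zero]
    intro h0
    have hBc : (B - c' • 1).det = 0 := by
      rw [hB, ← fromBlocks_one, fromBlocks_smul, smul_zero, smul_zero, sub_eq_add_neg, fromBlocks_neg, fromBlocks_add]
      simp only [neg_zero, add_zero, ← sub_eq_add_neg]
      rw [
        det_fromBlocks_zero₂₁, h0, mul_zero]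
    obtain ⟨v, hv, hBv⟩ := Matrix.exists_mulVec_eq_zero_iff.2 hBc
    have hPv : P *ᵥ v ≠ 0 := fun e => hv (by
      have := congrArg (R *ᵥ ·) e
      simpa [Matrix.mulVec_mulVec, hRP] using this)
    refine hPv (Matrix.eq_zero_of_mulVec_eq_zero ((Matrix.isUnit_iff_isUnit_det _).1 hA').ne_zero ?_)
    rw [Matrix.mulVec_mulVec, Matrix.sub_mul, Matrix.smul_mul, Matrix.one_mul, hAP]
    rw [show P * B - c' • P = P * (B - c' • 1) by rw [Matrix.mul_sub, Matrix.mul_smul, Matrix.mul_one],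
      ← Matrix.mulVec_mulVec, hBv, Matrix.mulVec_zero]

/-- The normal form. -/
structure Normal (δ : F) (A H : Matrix κ κ F) where
  tp : ℕ
  dp : Fin tp → ℕ
  Hp : Matrix (Idx dp) (Idx dp) F
  tm : ℕ
  dm : Fin tm → ℕ
  Hm : Matrix (Idx dm) (Idx dm) F
  r : ℕ
  C0 : Matrix (Fin r) (Fin r) F
  H0 : Matrix (Fin r) (Fin r) F
  hp : SForm (RingHom.id F) δ dp Hp
  hm : SForm (RingHom.id F) δ dm Hm
  h0 : H0ᵀ = δ • H0
  h0d : H0.det ≠ 0
  h0C : C0ᵀ * H0 * C0 = H0
  hC1 : IsUnit (C0 - 1)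
  hC2 : IsUnit (C0 + 1)
  iso : Iso (fromBlocks ((1 : F) • (1 + shift dp F)) 0 0 (fromBlocks ((-1 : F) • (1 + shift dm F)) 0 0 C0))
    (fromBlocks Hp 0 0 (fromBlocks Hm 0 0 H0)) A H

theorem exists_normal {δ : F} (hδ : δ * δ = 1) {A H : Matrix κ κ F} (hH : Hᵀ = δ • H) (hHd : H.det ≠ 0)
    (hA : Aᵀ * H * A = H) : Nonempty (Normal δ A H) := by
  obtain ⟨tp, dp, r, Hp, C, H2, hp, h2s, h2d, h2C, hC, -, hI⟩ := split_form hδ (c := (1 : F)) (mul_one _) hH hHd hA
  obtain ⟨tm, dm, r', Hm, C0, H0, hm, h0s, h0d, h0C, hC0, hC', hI'⟩ :=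
    split_form hδ (c := (-1 : F)) (neg_one_mul _ |>.trans (neg_neg _)) h2s h2d h2C
  have h1 := hC' 1 hC
  rw [one_smul] at h1
  rw [neg_one_smul, sub_neg_eq_add] at hC0
  exact ⟨⟨tp, dp, Hp, tm, dm, Hm, r', C0, H0, hp, hm, h0s, h0d, h0C, h1, hC0,
    ((Iso.refl _ Hp).sum hI').trans hI⟩⟩

/-- Normal forms with the same invariants come from equivalent pairs. -/
theorem Normal.iso_of_eq [Fintype F] (h2 : (2 : F) ≠ 0) {δ : F} (hδ : δ = 1 ∨ δ = -1) {A A' H H' : Matrix κ κ F}
    (X : Normal δ A H) (Y : Normal δ A' H')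
    (hmp : ∀ i, Fintype.card (Diag X.dp i) = Fintype.card (Diag Y.dp i))
    (hmm : ∀ i, Fintype.card (Diag X.dm i) = Fintype.card (Diag Y.dm i))
    (hsp : ∀ i, δ * (-1 : F) ^ (i - 1) = 1 → (IsSquare (formG X.Hp i).det ↔ IsSquare (formG Y.Hp i).det))
    (hsm : ∀ i, δ * (-1 : F) ^ (i - 1) = 1 → (IsSquare (formG X.Hm i).det ↔ IsSquare (formG Y.Hm i).det))
    (hr : X.r = Y.r) (hC : ∃ P : (Matrix (Fin Y.r) (Fin Y.r) F)ˣ,
      (P : Matrix (Fin Y.r) (Fin Y.r) F) * X.C0.submatrix (Fin.cast hr.symm) (Fin.cast hr.symm) = Y.C0 * P) :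
    Iso A H A' H' := by
  obtain ⟨tp, dp, Hp, tm, dm, Hm, r, C, H0, hp, hm, h0, h0d, h0C, hC1, hC2, iso⟩ := X
  dsimp only at hr hC hmp hmm hsp hsm
  subst hr
  have hδ' : δ * δ = 1 := by rcases hδ with rfl | rfl <;> simp
  exact iso.symm.trans (((iso_unip h2 hδ hp Y.hp 1 hmp hsp).sum
    ((iso_unip h2 hδ hm Y.hm (-1) hmm hsm).sum (iso_rest h2 hδ' h0 h0d h0C hC1 hC2 Y.h0 Y.h0d Y.h0C (by
      obtain ⟨P, hP⟩ := hC
      exact ⟨P, hP⟩)))).trans Y.iso)

end CfsgLib.FgsC.FormClasses
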